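import Cfsg.Agent.FFBlocks.Decomp

/-!
# Three facts about the roots of a configuration
-/

set_option autoImplicit false
set_option linter.unusedSectionVars false

namespace CfsgLib.PushAut85

open Subgroup CfsgLib.FFCells CfsgLib.SL2Recognition

variable {P V : Type*} [Group P] [Finite P] [AddCommGroup V] [Finite V]
  {σ : P →* AddMonoid.End V} {𝒞 : Set (Subgroup P × Subgroup P)}

/-- The commutators of the roots are fixed by all roots. -/
theorem sub_mem_fix_rootsJoin (hF : Fam σ 𝒞) {j : P} (hj : j ∈ rootsJoin 𝒞) (w : V) :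
    σ j w - w ∈ fix σ (rootsJoin 𝒞) := by
  classical
  haveI : Fintype 𝒞 := Fintype.ofFinite _
  obtain ⟨t, ht⟩ := hF.exists_components hj
  rw [ht w]
  exact sum_mem fun c _ => hF.root_sub_mem c ((hF.data c).u_mem _) w

/-- The commutators of a root element meet the fixed space of the groups trivially. -/
theorem apply_eq_of_sub_mem_fix (hF : Fam σ 𝒞) {j : P} (hj : j ∈ rootsJoin 𝒞) {w : V}
    (h : σ j w - w ∈ fix σ (grpsJoin 𝒞)) : σ j w = w := by
  classical
  haveI : Fintype 𝒞 := Fintype.ofFinite _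
  obtain ⟨t, ht⟩ := hF.exists_components hj
  rw [← sub_eq_zero, ht w]
  refine Finset.sum_eq_zero fun c _ => ?_
  have h1 := congrFun ((hF.mem_fix_grps.1 h) c) 0
  rw [hF.components_ψ ht c w] at h1
  simp only [Matrix.cons_val_zero, Pi.zero_apply] at h1
  rw [sub_eq_zero]
  rcases mul_eq_zero.1 h1 with h2 | h2
  · have h3 : σ ((hF.data c).u (t c)) w - w ∈ fix σ c.1.2 := by
      rw [← (hF.data c).ker, (hF.data c).ψ_apply_sub, h2, zero_mul]
      funext i
      fin_cases i <;> rfl
    by_cases hu : (hF.data c).u (t c) = 1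
    · rw [hu, apply_one]
    · exact (hF.data c).moved ((hF.data c).u_mem _) hu h3 _ ((hF.data c).u_mem _)
  · exact (hF.data c).mem_fix_iff.2 h2 _ ((hF.data c).u_mem _)

/-- A nontrivial `T`-invariant subgroup of the roots fixes the same vectors as all of them. -/
theorem fix_eq_fix_rootsJoin {p : ℕ} {T : Subgroup P} (hC : Config σ p T 𝒞)
    (hinj : Function.Injective σ) {X : Subgroup P} (hX : X ≤ rootsJoin 𝒞) (hne : X ≠ ⊥)
    (hn : T ≤ normalizer (X : Set P)) : fix σ X = fix σ (rootsJoin 𝒞) := by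
  classical
  haveI : Fintype 𝒞 := Fintype.ofFinite _
  have hF := hC.pre.fam
  refine le_antisymm (fun v hv => hF.mem_fix_join.2 fun c => ?_) (fix_anti σ hX)
  by_contra hvc
  -- `X` has no component at `c`
  have hc : ∀ x ∈ X, ∀ w, σ x w - w ∈ fix σ c.1.2 := fun x hx w => by
    obtain ⟨t, ht⟩ := hF.exists_components (hX hx)
    have h1 := hF.components_ψ ht c v
    rw [hv x hx, sub_self, map_zero] at h1
    have h2 : t c = 0 := by
      have h3 := congrFun h1 0
      simp only [Matrix.cons_val_zero, Pi.zero_apply] at h3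
      exact (mul_eq_zero.1 h3.symm).resolve_right hvc
    rw [← (hF.data c).ker, hF.components_ψ ht c w, h2, zero_mul]
    funext i
    fin_cases i <;> rfl
  -- hence none at any cell
  refine hne ((eq_bot_iff_forall _).2 fun x hx => hinj (AddMonoidHom.ext fun w => ?_))
  rw [map_one]
  show σ x w = w
  refine apply_eq_of_sub_mem_fix hF (hX hx) (fix_iSup _ fun d => ?_)
  obtain ⟨g, hg, -, hgd⟩ := hC.trans c.1 c.2 d.1 d.2
  rw [← hgd, mem_fix_cj]
  have hx' : g⁻¹ * x * g ∈ X := by
    simpa using (mem_normalizer_iff.1 (hn (inv_mem hg)) x).1 hx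
  have h1 := hc _ hx' (σ g⁻¹ w)
  rwa [apply_mul, apply_mul, apply_apply_inv, ← map_sub] at h1

/-- Two complements in involutions of the same group of roots differ by fixed vectors. -/
theorem mem_fix_of_graph (hF : Fam σ 𝒞) (v : P → V)
    (h1 : ∀ x ∈ rootsJoin 𝒞, σ x (v x) = v x)
    (h2 : ∀ x ∈ rootsJoin 𝒞, ∀ y ∈ rootsJoin 𝒞, σ y (v x) - v x = σ x (v y) - v y)
    {x : P} (hx : x ∈ rootsJoin 𝒞) : v x ∈ fix σ (rootsJoin 𝒞) := by
  classical
  haveI : Fintype 𝒞 := Fintype.ofFinite _
  refine hF.mem_fix_join.2 fun c => ?_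
  set D := hF.data c
  have hy : D.u 1 ∈ rootsJoin 𝒞 := hF.root_le_join c (D.u_mem _)
  have e1 := D.ψ_apply_sub 1 (v (D.u 1))
  rw [h1 _ hy, sub_self, map_zero] at e1
  have ey : D.ψ (v (D.u 1)) 1 = 0 := by simpa using (congrFun e1 0).symm
  obtain ⟨t, ht⟩ := hF.exists_components hx
  have e2 := hF.components_ψ ht c (v (D.u 1))
  rw [← h2 x hx _ hy, D.ψ_apply_sub, ey, mul_zero] at e2
  simpa using congrFun e2 0

end CfsgLib.PushAut85
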