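import Cfsg.Agent.PushAut85.Parabolic
import Cfsg.Prelude.Def_ClassificationK

/-!
# A group of automorphisms of `R` containing a Sylow `2`-subgroup of a group of even characteristic

If `M₀ ≤ N(R)` contains a Sylow subgroup `T` that keeps `V` inside `O = O₂(P)`, so does `M₀`.
Otherwise there are two further conjugates of `P` with non-commuting modules centralising a
nontrivial `2`-subgroup `Y`, against the characteristic of `N(Y)`.
-/

set_option autoImplicit false
set_option linter.style.haveILetI false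
set_option linter.unusedSectionVars false

namespace CfsgLib.PushAut85

open Subgroup Cfsg CfsgLib.FFCells CfsgLib.PushParabolic85
open scoped commutatorElement Pointwise

variable {G : Type*} [Group G] [Finite G]

/-- Commutators in `O` are centralised by `E` if `[O, E] ≤ V ≤ O` and `V` is central in `O` of exponent two. -/
theorem commute_of_commutator_le {O V E : Subgroup G} (hVO : V ≤ O)
    (hOV : O ≤ centralizer (V : Set G)) (hc : ⁅O, E⁆ ≤ V) {a b e : G} (ha : a ∈ O) (hb : b ∈ O)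
    (he : e ∈ E) : e * ⁅a, b⁆ = ⁅a, b⁆ * e := by
  have hcen : ∀ x ∈ O, ∀ u ∈ V, x * u = u * x := fun x hx u hu =>
    (mem_centralizer_iff.1 (hOV hx) u hu).symm
  have hmov : ∀ x ∈ O, ∃ u ∈ V, e * x * e⁻¹ = x * u := fun x hx => ⟨⁅x⁻¹, e⁆,
    hc (commutator_mem_commutator (inv_mem hx) he), by simp only [commutatorElement_def]; group⟩
  obtain ⟨u, hu, eu⟩ := hmov a ha
  obtain ⟨w, hw, ew⟩ := hmov b hb
  refine mul_inv_eq_iff_eq_mul.1 ?_
  calc e * ⁅a, b⁆ * e⁻¹ = ⁅e * a * e⁻¹, e * b * e⁻¹⁆ := by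
        simp only [commutatorElement_def]; group
    _ = ⁅a * u, b * w⁆ := by rw [eu, ew]
    _ = ⁅a, b⁆ := by
        simp only [commutatorElement_def, mul_inv_rev]
        rw [show a * u * (b * w) * (u⁻¹ * a⁻¹) * (w⁻¹ * b⁻¹) =
            a * (u * (b * w)) * u⁻¹ * a⁻¹ * w⁻¹ * b⁻¹ by group,
          ← hcen (b * w) (mul_mem hb (hVO hw)) u hu,
          show a * (b * w * u) * u⁻¹ * a⁻¹ * w⁻¹ * b⁻¹ = a * b * (w * a⁻¹) * w⁻¹ * b⁻¹ by group,
          ← hcen a⁻¹ (inv_mem ha) w hw]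
        group

/-- `E` cannot be inside a local subgroup of characteristic two together with both `P` and a
conjugate of it with non-commuting module. -/
theorem false_of_two_parabolics {R P V O : Subgroup G} (d : PushData R P V O)
    (hgen : ∀ X : Subgroup G, R ≤ X → X ≤ P → P ≤ normalizer (X : Set G) → X = P)
    (hPE : R ⊔ LocalStructure.pResOf 2 P = P) (hPR : P ≠ R)
    {m : G} (hm : m ∈ normalizer (R : Set G)) (hmO : ¬ cj m V ≤ O)
    {N Q S : Subgroup G} (hQN : Q ≤ N) (hQp : IsPGroup 2 Q) (hNQ : N ≤ normalizer (Q : Set G))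
    (hcQ : N ⊓ centralizer (Q : Set G) ≤ Q) (hQS : Q ≤ S) (hSR : S ≤ normalizer (R : Set G))
    (hPN : P ≤ N) (hPN' : cj m P ≤ N) : False := by
  haveI : Fact (Nat.Prime 2) := ⟨Nat.prime_two⟩
  set E := LocalStructure.pResOf 2 P
  have hEP : E ≤ P := LocalStructure.pResOf_le P
  have hmR : cj m R = R := cj_eq_self.2 hm
  set D := Q ⊓ R
  have hint : ∀ X : Subgroup G, X ≤ P → P ≤ normalizer (X : Set G) → IsPGroup 2 X → X ≤ O :=
    d.O_max
  have hPQ : P ≤ normalizer (Q : Set G) := hPN.trans hNQ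
  have hQP : Q ⊓ P = D := by
    refine le_antisymm (le_inf inf_le_left ?_) (inf_le_inf_left _ d.R_le)
    refine (hint _ inf_le_right (fun x hx => mem_normalizer_of_cj_le ?_) (hQp.to_le inf_le_left)).trans
      d.O_le
    exact le_inf ((cj_mono inf_le_left).trans (cj_eq_self.2 (hPQ hx)).le)
      ((cj_mono inf_le_right).trans (cj_le_of_mem hx))
  have hPD : P ≤ normalizer (D : Set G) := fun x hx => by
    rw [← hQP]
    exact mem_normalizer_of_cj_le (le_inf ((cj_mono inf_le_left).trans (cj_eq_self.2 (hPQ hx)).le)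
      ((cj_mono inf_le_right).trans (cj_le_of_mem hx)))
  have hDO : D ≤ O := hint D (inf_le_right.trans d.R_le) hPD (hQp.to_le inf_le_left)
  have hDV : D ≤ centralizer (cj m V : Set G) := by
    set X := cj m⁻¹ Q ⊓ P
    have hXn : P ≤ normalizer (X : Set G) := fun x hx => by
      refine mem_normalizer_of_cj_le (le_inf ?_ ((cj_mono inf_le_right).trans (cj_le_of_mem hx)))
      refine (cj_mono inf_le_left).trans (le_of_eq ?_)
      have hy : m * x * m⁻¹ ∈ normalizer (Q : Set G) := hNQ (hPN' (conj_mem_cj hx))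
      have e := congrArg (cj m⁻¹) (cj_eq_self.2 hy)
      rw [cj_cj] at e
      rw [cj_cj]
      simpa [mul_assoc] using e
    have hXO : X ≤ O := hint X inf_le_right hXn ((hQp.map _).to_le inf_le_left)
    have hDX : cj m⁻¹ D ≤ X := le_inf (cj_mono inf_le_left) ((cj_mono inf_le_right).trans
      ((cj_eq_self.2 (inv_mem hm)).le.trans d.R_le))
    have hOV : O ≤ centralizer (V : Set G) := fun x hx =>
      (d.cent x (d.R_le (d.O_le hx))).2 hx
    rw [le_centralizer_iff]
    rintro _ ⟨v, hv, rfl⟩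
    refine mem_centralizer_iff.2 fun y hy => ?_
    have h1 : m⁻¹ * y * m ∈ O := hXO (hDX (by simpa using conj_mem_cj (g := m⁻¹) hy))
    have h2 := mem_centralizer_iff.1 (hOV h1) v hv
    rw [MulEquiv.coe_toMonoidHom, MulAut.conj_apply]
    calc y * (m * v * m⁻¹) = m * (m⁻¹ * y * m * v) * m⁻¹ := by group
      _ = m * (v * (m⁻¹ * y * m)) * m⁻¹ := by rw [h2]
      _ = m * v * m⁻¹ * y := by group
  have hPE' : P ≤ normalizer (E : Set G) := by
    rw [show E = (pResidual 2 ↥P).map P.subtype from (LocalStructure.map_pResidual P).symm]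
    exact le_normalizer_map_subtype LocalStructure.pResidual_normal
  set Λ := ⁅D, E⁆
  have hΛV : Λ ≤ V := (commutator_mono hDO le_rfl).trans d.comm
  have hΛD : Λ ≤ D := Coprime.commutator_le_of_le_normalizer (hEP.trans hPD)
  have hΛB : Λ ≤ centralizer (baumannSubgroupOf 2 R : Set G) :=
    (le_inf hΛV (hΛD.trans hDV)).trans (d.inter m hm hmO)
  have hΛn : P ≤ normalizer (Λ : Set G) := fun x hx => mem_normalizer_of_cj_le (by
    rw [cj, map_commutator]
    exact commutator_mono (cj_eq_self.2 (hPD hx)).le (cj_eq_self.2 (hPE' hx)).le)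
  have hEΛ : E ≤ centralizer (Λ : Set G) :=
    d.fixed Λ (hΛD.trans (inf_le_right.trans d.R_le)) hΛn (le_centralizer_iff.1 hΛB)
  -- `P` acts trivially on `Q / D`
  have hX : P ⊓ centMod Q D = P := by
    refine hgen _ (le_inf d.R_le (le_centMod (d.R_le.trans hPD) (le_inf ?_ ?_))) inf_le_left ?_
    · exact Coprime.commutator_le_of_le_normalizer ((d.R_le.trans hPN).trans hNQ)
    · rw [commutator_comm]
      exact Coprime.commutator_le_of_le_normalizer (hQS.trans hSR)
    · intro x hx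
      refine mem_normalizer_of_cj_le ?_
      rintro _ ⟨y, hy, rfl⟩
      obtain ⟨hyP, hyc⟩ := mem_inf.1 hy
      rw [MulEquiv.coe_toMonoidHom, MulAut.conj_apply]
      obtain ⟨hyD, hyQ⟩ := mem_centMod.1 hyc
      refine mem_inf.2 ⟨mul_mem (mul_mem hx hyP) (inv_mem hx), mem_centMod.2
        ⟨mul_mem (mul_mem (hPD hx) hyD) (inv_mem (hPD hx)), fun a ha => ?_⟩⟩
      have ha' : x⁻¹ * a * x ∈ Q := by
        simpa using (mem_normalizer_iff.1 (hPQ (inv_mem hx)) a).1 ha
      rw [show ⁅a, x * y * x⁻¹⁆ = x * ⁅x⁻¹ * a * x, y⁆ * x⁻¹ by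
        simp only [commutatorElement_def]; group]
      exact (mem_normalizer_iff.1 (hPD hx) _).1 (hyQ _ ha')
  have hE1 : E = ⊥ := by
    refine le_bot_iff.1 (LocalStructure.pResOf_le_of_forall fun x hx hxo => ?_)
    have hxE : x ∈ E := LocalStructure.mem_pResOf hx hxo
    have h1 : ⁅Q, zpowers x⁆ ≤ D := commutator_le_of_le_centMod
      ((zpowers_le.2 hx).trans (hX.ge.trans inf_le_right))
    have h2 : ⁅D, zpowers x⁆ ≤ Λ := commutator_mono le_rfl (zpowers_le.2 hxE)
    have h3 : ⁅Λ, zpowers x⁆ = ⊥ := by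
      rw [commutator_eq_bot_iff_le_centralizer, le_centralizer_iff, zpowers_le]
      exact hEΛ hxE
    exact mem_bot.2 (LocalStructure.eq_one_of_coprime_of_mem hQp
      (hcQ (mem_inf.2 ⟨hPN hx, BlockNormal85.coprime_centralizes_of_series hQp hxo (hPQ hx)
        h1 h2 h3⟩)) hxo)
  rw [hE1, sup_bot_eq] at hPE
  exact hPR hPE.symm

theorem cj_sup (g : G) (X Y : Subgroup G) : cj g (X ⊔ Y) = cj g X ⊔ cj g Y := Subgroup.map_sup _ _ _

/-- A subgroup `St` normalised by `m`, with `m² ∈ St`, as the index two subgroup `⟨St, m⟩`. -/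
theorem exists_double (St : Subgroup G) {m : G} (hm2 : m * m ∈ St) (hmn : m ∈ normalizer (St : Set G))
    (hm : m ∉ St) : ∃ S₂ : Subgroup G, St ≤ S₂ ∧ m ∈ S₂ ∧ 2 * Nat.card St ∣ Nat.card S₂ ∧
      ∀ x ∈ S₂, x ∈ St ∨ m⁻¹ * x ∈ St := by
  have hc : ∀ s ∈ St, m⁻¹ * s * m ∈ St := fun s hs => by
    simpa using (mem_normalizer_iff.1 (inv_mem hmn) s).1 hs
  have hc' : ∀ s ∈ St, m * s * m⁻¹ ∈ St := fun s hs => (mem_normalizer_iff.1 hmn s).1 hs
  let S₂ : Subgroup G :=
    { carrier := {x | x ∈ St ∨ m⁻¹ * x ∈ St}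
      one_mem' := Or.inl (one_mem _)
      mul_mem' := by
        rintro x y (hx | hx) (hy | hy)
        · exact Or.inl (mul_mem hx hy)
        · exact Or.inr (by simpa [mul_assoc] using mul_mem (hc x hx) hy)
        · exact Or.inr (by simpa [mul_assoc] using mul_mem hx hy)
        · refine Or.inl ?_
          have := mul_mem (mul_mem hm2 (hc _ hx)) hy
          simpa [mul_assoc] using this
      inv_mem' := by
        rintro x (hx | hx)
        · exact Or.inl (inv_mem hx)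
        · refine Or.inr ?_
          have := mul_mem (inv_mem hm2) (hc' _ (inv_mem hx))
          simpa [mul_assoc] using this }
  have hle : St ≤ S₂ := fun x hx => Or.inl hx
  have hmS : m ∈ S₂ := Or.inr (by simp)
  refine ⟨S₂, hle, hmS, ?_, fun x hx => hx⟩
  haveI : (St.subgroupOf S₂).Normal := (normal_subgroupOf_iff_le_normalizer hle).2 fun x hx => by
    rcases hx with hx | hx
    · exact le_normalizer hx
    · simpa using mul_mem hmn (le_normalizer hx)
  have h2 : orderOf (QuotientGroup.mk' (St.subgroupOf S₂) ⟨m, hmS⟩) = 2 := by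
    refine orderOf_eq_prime ?_ ?_
    · rw [← map_pow]
      exact (QuotientGroup.eq_one_iff _).2 (mem_subgroupOf.2 (by simpa [pow_two] using hm2))
    · exact fun e => hm (mem_subgroupOf.1 ((QuotientGroup.eq_one_iff _).1 e))
  rw [card_eq_card_quotient_mul_card_subgroup (St.subgroupOf S₂),
    Nat.card_congr (subgroupOfEquivOfLe hle).toEquiv]
  exact mul_dvd_mul_right (h2 ▸ orderOf_dvd_natCard _) _

/-- **`M₀` keeps `V` inside `O`.** -/
theorem cj_le_of_even (hE : IsOfEvenCharacteristic G) (T : Sylow 2 G) {R P V O M₀ : Subgroup G}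
    (d : PushData R P V O)
    (hgen : ∀ X : Subgroup G, R ≤ X → X ≤ P → P ≤ normalizer (X : Set G) → X = P)
    (hPE : R ⊔ LocalStructure.pResOf 2 P = P) (hPR : P ≠ R) (hRT : R ≤ (T : Subgroup G))
    (hTM : (T : Subgroup G) ≤ M₀) (hM : M₀ ≤ normalizer (R : Set G))
    (hTV : ∀ t ∈ (T : Subgroup G), cj t V ≤ O) : ∀ m ∈ M₀, cj m V ≤ O := by
  haveI : Fact (Nat.Prime 2) := ⟨Nat.prime_two⟩
  set B := baumannSubgroupOf 2 R
  set Zb := B ⊓ centralizer (B : Set G)
  set pt : G → Subgroup G := fun g => cj g V ⊔ Zb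
  have hB : ∀ g ∈ M₀, cj g B = B := fun g hg =>
    cj_eq_self.2 (LocalEven50.normalizer_le_normalizer_baumann R (hM hg))
  have hZ : ∀ g ∈ M₀, cj g Zb = Zb := fun g hg => by
    show (B ⊓ centralizer (B : Set G)).map _ = _
    rw [PLocal.map_inf_centralizer (MulAut.conj g).injective, ← cj, hB g hg]
  have hVB : ∀ g ∈ M₀, cj g V ≤ B := fun g hg => (cj_mono d.V_le_B).trans (hB g hg).le
  have hpt : ∀ a ∈ M₀, ∀ x, cj a (pt x) = pt (a * x) := fun a ha x => by
    show cj a (cj x V ⊔ Zb) = _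
    rw [cj_sup, cj_cj, hZ a ha]
  -- membership in `O` is commuting
  have hiff : ∀ g ∈ M₀, (cj g V ≤ O ↔ cj g V ≤ centralizer (V : Set G)) := fun g hg => by
    have hR : cj g V ≤ R := (hVB g hg).trans inf_le_left
    exact ⟨fun h x hx => (d.cent x (d.R_le (hR hx))).2 (h hx),
      fun h x hx => (d.cent x (d.R_le (hR hx))).1 (h hx)⟩
  have hcomm : ∀ a ∈ M₀, ∀ b ∈ M₀,
      (cj b V ≤ centralizer (cj a V : Set G) ↔ cj (a⁻¹ * b) V ≤ O) := fun a ha b hb => by
    rw [hiff _ (mul_mem (inv_mem ha) hb)]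
    constructor
    · intro h
      have h1 := cj_mono (g := a⁻¹) h
      rw [cj_cj] at h1
      refine h1.trans ?_
      rintro _ ⟨y, hy, rfl⟩
      refine mem_centralizer_iff.2 fun v hv => ?_
      have h2 := mem_centralizer_iff.1 hy (a * v * a⁻¹) (conj_mem_cj hv)
      rw [MulEquiv.coe_toMonoidHom, MulAut.conj_apply, inv_inv]
      calc v * (a⁻¹ * y * a) = a⁻¹ * (a * v * a⁻¹ * y) * a := by group
        _ = a⁻¹ * (y * (a * v * a⁻¹)) * a := by rw [h2]
        _ = a⁻¹ * y * a * v := by group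
    · intro h x hx
      refine mem_centralizer_iff.2 ?_
      rintro _ ⟨v, hv, rfl⟩
      have h1 : a⁻¹ * x * a ∈ cj (a⁻¹ * b) V := by
        rw [← cj_cj]
        simpa using conj_mem_cj (g := a⁻¹) hx
      have h2 := mem_centralizer_iff.1 (h h1) v hv
      rw [MulEquiv.coe_toMonoidHom, MulAut.conj_apply]
      calc a * v * a⁻¹ * x = a * (v * (a⁻¹ * x * a)) * a⁻¹ := by group
        _ = a * (a⁻¹ * x * a * v) * a⁻¹ := by rw [h2]
        _ = x * (a * v * a⁻¹) := by group
  -- it depends only on the points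
  have hrel : ∀ a ∈ M₀, ∀ b ∈ M₀, ∀ b' ∈ M₀, pt b = pt b' →
      cj (a⁻¹ * b) V ≤ O → cj (a⁻¹ * b') V ≤ O := fun a ha b hb b' hb' e h => by
    rw [← hcomm a ha b hb] at h
    rw [← hcomm a ha b' hb']
    refine (le_sup_left.trans e.ge : cj b' V ≤ pt b).trans (sup_le h ?_)
    exact inf_le_right.trans (centralizer_le (SetLike.coe_subset_coe.2 (hVB a ha)))
  have hsymm : ∀ a ∈ M₀, ∀ b ∈ M₀, cj (a⁻¹ * b) V ≤ O → cj (b⁻¹ * a) V ≤ O := fun a ha b hb h => by
    rw [← hcomm a ha b hb, le_centralizer_iff] at h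
    rwa [← hcomm b hb a ha]
  have huniq : ∀ g ∈ M₀, ∀ k ∈ M₀, ¬ cj g V ≤ O → ¬ cj k V ≤ O → pt g = pt k :=
    fun g hg k hk h1 h2 => le_antisymm
      (sup_le (d.uniq k (hM hk) g (hM hg) h2 h1) le_sup_right)
      (sup_le (d.uniq g (hM hg) k (hM hk) h1 h2) le_sup_right)
  intro m hm
  by_contra hmO
  have hmi : ¬ cj m⁻¹ V ≤ O := fun h => hmO (by
    have := hsymm m hm 1 (one_mem _) (by simpa using h)
    simpa using this)
  have hmm : pt (m * m) = pt 1 := by
    rw [← hpt m hm, ← huniq m⁻¹ (inv_mem hm) m hm hmi hmO, hpt m hm, mul_inv_cancel]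
  let St : Subgroup G :=
    { carrier := {g | g ∈ M₀ ∧ pt g = pt 1}
      one_mem' := ⟨one_mem _, rfl⟩
      mul_mem' := fun {a b} ha hb => ⟨mul_mem ha.1 hb.1, by
        rw [← hpt a ha.1, hb.2, hpt a ha.1, mul_one, ha.2]⟩
      inv_mem' := fun {a} ha => ⟨inv_mem ha.1, by
        conv_rhs => rw [← inv_mul_cancel a, ← hpt _ (inv_mem ha.1), ha.2, hpt _ (inv_mem ha.1),
          mul_one]⟩ }
  have hSt : ∀ g, g ∈ St ↔ g ∈ M₀ ∧ pt g = pt 1 := fun g => Iff.rfl
  have heq : ∀ a ∈ M₀, ∀ b ∈ M₀, pt a = pt b → a⁻¹ * b ∈ St := fun a ha b hb e => by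
    refine (hSt _).2 ⟨mul_mem (inv_mem ha) hb, ?_⟩
    rw [← hpt _ (inv_mem ha), ← e, hpt _ (inv_mem ha), inv_mul_cancel]
  have hTnot : ∀ t ∈ (T : Subgroup G), pt t ≠ pt m := fun t ht e => hmO (by
    have := hrel 1 (one_mem _) t (hTM ht) m hm e (by simpa using hTV t ht)
    simpa using this)
  have hmSt : m ∈ normalizer (St : Set G) := by
    have h1 : ∀ s ∈ St, m⁻¹ * s * m ∈ St := fun s hs => by
      obtain ⟨hsM, hs1⟩ := (hSt s).1 hs
      have hn : ¬ cj (s * m) V ≤ O := fun h => hmO (by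
        have h2 := hsymm 1 (one_mem _) (s * m) (mul_mem hsM hm) (by simpa using h)
        have h3 := hrel (s * m) (mul_mem hsM hm) 1 (one_mem _) s hsM hs1.symm (by simpa using h2)
        have h4 := hsymm m hm 1 (one_mem _) (by
          simpa [mul_assoc] using h3)
        simpa using h4)
      rw [mul_assoc]
      exact heq m hm _ (mul_mem hsM hm) (huniq m hm _ (mul_mem hsM hm) hmO hn)
    have h2 : m⁻¹ ∈ normalizer (St : Set G) := by
      refine mem_normalizer_of_cj_le ?_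
      rintro _ ⟨s, hs, rfl⟩
      simpa using h1 s hs
    simpa using inv_mem h2
  -- a point outside the two orbits of `T`
  obtain ⟨g, hg, hgT⟩ : ∃ g ∈ M₀, ∀ t ∈ (T : Subgroup G), pt g ≠ pt t ∧ pt g ≠ pt (t * m) := by
    by_contra hall
    push Not at hall
    have hmm' : m * m ∈ St := (hSt _).2 ⟨mul_mem hm hm, hmm⟩
    have hmn : m ∉ St := fun h => hTnot 1 (one_mem _) ((hSt _).1 h).2.symm
    obtain ⟨S₂, hle, hmS, hdvd, hS₂⟩ := exists_double St hmm' hmSt hmn
    have hS₂M : S₂ ≤ M₀ := fun x hx => by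
      rcases hS₂ x hx with h | h
      · exact ((hSt _).1 h).1
      · simpa using mul_mem hm ((hSt _).1 h).1
    have hcov : ∀ x ∈ M₀, ∃ t ∈ (T : Subgroup G), t⁻¹ * x ∈ S₂ := fun x hx => by
      obtain ⟨t, ht, h⟩ := hall x hx
      by_cases h1 : pt x = pt t
      · exact ⟨t, ht, hle (heq t (hTM ht) x hx h1.symm)⟩
      · have h2 := heq (t * m) (mul_mem (hTM ht) hm) x hx (h h1).symm
        exact ⟨t, ht, by simpa [mul_assoc] using mul_mem hmS (hle h2)⟩
    have hTS : (T : Subgroup G) ⊓ S₂ ≤ St := fun x hx => by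
      obtain ⟨hxT, hxS⟩ := mem_inf.1 hx
      refine (hS₂ x hxS).resolve_right fun h => hTnot x hxT ?_
      have h3 := ((hSt _).1 h).2
      have h4 := congrArg (cj m) h3
      rwa [hpt m hm, hpt m hm, mul_inv_cancel_left, mul_one] at h4
    have hrel' : S₂.relIndex (T : Subgroup G) = S₂.relIndex M₀ := by
      refine Nat.card_eq_of_bijective (Quotient.map'
        (fun t : ↥(T : Subgroup G) => (⟨t.1, hTM t.2⟩ : ↥M₀)) fun a b hab => ?_) ⟨?_, ?_⟩
      · rw [QuotientGroup.leftRel_apply] at hab ⊢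
        exact hab
      · intro a b
        induction a using Quotient.inductionOn'
        induction b using Quotient.inductionOn'
        intro e
        rw [Quotient.map'_mk'', Quotient.map'_mk'', Quotient.eq'', QuotientGroup.leftRel_apply] at e
        rw [Quotient.eq'', QuotientGroup.leftRel_apply]
        exact e
      · intro x
        induction x using Quotient.inductionOn' with
        | h x =>
          obtain ⟨t, ht, h⟩ := hcov x.1 x.2
          refine ⟨Quotient.mk'' ⟨t, ht⟩, ?_⟩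
          rw [Quotient.map'_mk'', Quotient.eq'', QuotientGroup.leftRel_apply]
          exact h
    have e1 : Nat.card M₀ = Nat.card S₂ * S₂.relIndex M₀ := by
      rw [Subgroup.relIndex, ← (S₂.subgroupOf M₀).card_mul_index,
        Nat.card_congr (subgroupOfEquivOfLe hS₂M).toEquiv]
    have e2 : Nat.card ↥(T : Subgroup G) =
        Nat.card ↥((T : Subgroup G) ⊓ S₂) * S₂.relIndex (T : Subgroup G) := by
      rw [Subgroup.relIndex, ← (S₂.subgroupOf (T : Subgroup G)).card_mul_index,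
        ← Subgroup.inf_subgroupOf_left,
        Nat.card_congr (subgroupOfEquivOfLe (inf_le_left : (T : Subgroup G) ⊓ S₂ ≤ _)).toEquiv]
    have h3 : 2 * Nat.card ↥((T : Subgroup G) ⊓ S₂) ∣ Nat.card S₂ :=
      (mul_dvd_mul_left 2 (card_dvd_of_le hTS)).trans hdvd
    have h4 : Nat.card ↥(T : Subgroup G) * 2 ∣ Nat.card G := by
      refine Dvd.dvd.trans ?_ (card_subgroup_dvd_card M₀)
      rw [e1, ← hrel', e2]
      obtain ⟨k, hk⟩ := h3
      rw [hk]
      exact ⟨k, by ring⟩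
    rw [← (T : Subgroup G).card_mul_index] at h4
    exact T.not_dvd_index' (Nat.pos_iff_ne_zero.1 Subgroup.index_ne_zero_of_finite.bot_lt)
      (Nat.dvd_of_mul_dvd_mul_left Nat.card_pos h4)
  -- commuting with both orbits
  have hcl : ∀ a ∈ M₀, (∀ t ∈ (T : Subgroup G), pt (a * m) ≠ pt t) →
      ∀ t ∈ (T : Subgroup G), cj (a⁻¹ * t) V ≤ O := fun a ha h t ht => by
    by_contra hn
    refine h t ht ?_
    rw [← hpt a ha, huniq m hm _ (mul_mem (inv_mem ha) (hTM ht)) hmO hn, hpt a ha,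
      mul_inv_cancel_left]
  have hcl' : ∀ a ∈ M₀, (∀ t ∈ (T : Subgroup G), pt a ≠ pt t) →
      ∀ t ∈ (T : Subgroup G), cj (a⁻¹ * (t * m)) V ≤ O := fun a ha h t ht => by
    by_contra hn
    refine h t ht ?_
    have h1 := huniq m hm _ (mul_mem (inv_mem ha) (mul_mem (hTM ht) hm)) hmO hn
    have h2 := congrArg (cj a) h1
    rw [hpt a ha, hpt a ha, mul_inv_cancel_left] at h2
    have h3 := congrArg (cj t) (huniq m⁻¹ (inv_mem hm) m hm hmi hmO)
    rw [hpt t (hTM ht), hpt t (hTM ht), ← h2] at h3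
    have h4 := heq _ (mul_mem (hTM ht) (inv_mem hm)) _ (mul_mem ha hm) h3
    rw [show (t * m⁻¹)⁻¹ * (a * m) = m * (t⁻¹ * a) * m by group] at h4
    have h5 := (mem_normalizer_iff.1 hmSt _).2 (by
      simpa [mul_assoc] using mul_mem h4 (inv_mem ((hSt _).2 ⟨mul_mem hm hm, hmm⟩)) :
        m * (t⁻¹ * a) * m⁻¹ ∈ St)
    rw [← mul_one t, ← hpt t (hTM ht), ← ((hSt _).1 h5).2, hpt t (hTM ht), mul_inv_cancel_left]
  have hgm : ∀ t ∈ (T : Subgroup G), pt (g * m) ≠ pt t := fun t ht e => (hgT t ht).2 (by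
    have hgi : pt g = pt (g * (m * m)) := by
      rw [← hpt g hg, ← mul_one g, ← hpt g hg, hmm]
      simp [mul_one]
    have h1 := congrArg (cj (t * m⁻¹ * t⁻¹)) e
    have hu : t * m⁻¹ * t⁻¹ ∈ M₀ := mul_mem (mul_mem (hTM ht) (inv_mem hm)) (inv_mem (hTM ht))
    rw [hpt _ hu, hpt _ hu, inv_mul_cancel_right] at h1
    have h2 := congrArg (cj t) (huniq m⁻¹ (inv_mem hm) m hm hmi hmO)
    rw [hpt t (hTM ht), hpt t (hTM ht)] at h2
    have h6 : (g * m)⁻¹ * t ∈ St := heq _ (mul_mem hg hm) t (hTM ht) e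
    have h7 : g⁻¹ * (t * m) ∈ St := by
      have h8 := (mem_normalizer_iff.1 hmSt _).1 h6
      have h9 := mul_mem h8 ((hSt _).2 ⟨mul_mem hm hm, hmm⟩)
      simpa [mul_assoc] using h9
    rw [← mul_one g, ← hpt g hg, ← ((hSt _).1 h7).2, hpt g hg, mul_inv_cancel_left])
  -- the subgroup `Y`
  set Y : Subgroup G := ⨆ t : ↥(T : Subgroup G),
    ⁅cj (g⁻¹ * (t : G)) V, cj (g⁻¹ * ((t : G) * m)) V⁆ with hY
  have hOV : O ≤ centralizer (V : Set G) := fun x hx => (d.cent x (d.R_le (d.O_le hx))).2 hx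
  set E := LocalStructure.pResOf 2 P
  have hEY : E ≤ centralizer (Y : Set G) := by
    rw [le_centralizer_iff, hY]
    refine iSup_le fun t => commutator_le.2 fun a ha b hb => mem_centralizer_iff.2 fun e he => ?_
    exact commute_of_commutator_le d.V_le hOV d.comm (hcl g hg hgm t t.2 ha)
      (hcl' g hg (fun s hs => (hgT s hs).1) t t.2 hb) he
  have hgm2 : ∀ t ∈ (T : Subgroup G), pt (g * m * m) ≠ pt t := fun t ht e => (hgT t ht).1 (by
    rw [← e, mul_assoc, ← hpt g hg, hmm, hpt g hg, mul_one])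
  have hEY' : cj m E ≤ centralizer (Y : Set G) := by
    rw [le_centralizer_iff, hY]
    refine iSup_le fun t => commutator_le.2 fun a ha b hb => mem_centralizer_iff.2 ?_
    rintro _ ⟨e, he, rfl⟩
    have ha' : m⁻¹ * a * m ∈ O := hcl (g * m) (mul_mem hg hm) hgm2 t t.2 (by
      have h := conj_mem_cj (g := m⁻¹) ha
      rw [cj_cj, inv_inv] at h
      rwa [mul_inv_rev, mul_assoc])
    have hb' : m⁻¹ * b * m ∈ O := hcl' (g * m) (mul_mem hg hm) hgm t t.2 (by
      have h := conj_mem_cj (g := m⁻¹) hb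
      rw [cj_cj, inv_inv] at h
      rwa [mul_inv_rev, mul_assoc])
    have h1 := commute_of_commutator_le d.V_le hOV d.comm ha' hb' he
    rw [MulEquiv.coe_toMonoidHom, MulAut.conj_apply]
    calc m * e * m⁻¹ * ⁅a, b⁆ = m * (e * ⁅m⁻¹ * a * m, m⁻¹ * b * m⁆) * m⁻¹ := by
          simp only [commutatorElement_def]; group
      _ = m * (⁅m⁻¹ * a * m, m⁻¹ * b * m⁆ * e) * m⁻¹ := by rw [h1]
      _ = ⁅a, b⁆ * (m * e * m⁻¹) := by simp only [commutatorElement_def]; group
  have hYR : Y ≤ R := iSup_le fun t => commutator_le.2 fun a ha b hb => by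
    have ha' : a ∈ R := ((hVB _ (mul_mem (inv_mem hg) (hTM t.2))).trans inf_le_left) ha
    have hb' : b ∈ R :=
      ((hVB _ (mul_mem (inv_mem hg) (mul_mem (hTM t.2) hm))).trans inf_le_left) hb
    rw [commutatorElement_def]
    exact mul_mem (mul_mem (mul_mem ha' hb') (inv_mem ha')) (inv_mem hb')
  have hY0 : Y ≠ ⊥ := fun e => hmO (by
    have h1 : ⁅cj (g⁻¹ * 1) V, cj (g⁻¹ * (1 * m)) V⁆ = ⊥ := le_bot_iff.1 (e ▸ le_iSup
      (fun t : ↥(T : Subgroup G) => ⁅cj (g⁻¹ * (t : G)) V, cj (g⁻¹ * ((t : G) * m)) V⁆) 1)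
    rw [one_mul, mul_one, commutator_eq_bot_iff_le_centralizer, le_centralizer_iff,
      hcomm _ (inv_mem hg) _ (mul_mem (inv_mem hg) hm)] at h1
    simpa using h1)
  set N := normalizer (Y : Set G) with hN
  set T' : Sylow 2 G := g⁻¹ • T
  have hT' : (T' : Subgroup G) = cj g⁻¹ (T : Subgroup G) := rfl
  have hTY : (T' : Subgroup G) ≤ N := by
    rw [hT']
    rintro _ ⟨s, hs, rfl⟩
    rw [MulEquiv.coe_toMonoidHom, MulAut.conj_apply, inv_inv]
    refine mem_normalizer_of_cj_le ?_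
    rw [hY, cj, Subgroup.map_iSup]
    refine iSup_le fun t => ?_
    rw [map_commutator, ← cj, ← cj, cj_cj, cj_cj]
    refine le_of_eq_of_le ?_ (le_iSup
      (fun u : ↥(T : Subgroup G) => ⁅cj (g⁻¹ * (u : G)) V, cj (g⁻¹ * ((u : G) * m)) V⁆)
      ⟨s * t, mul_mem hs t.2⟩)
    simp only [mul_assoc, mul_inv_cancel_left]
  have hRT' : R ≤ (T' : Subgroup G) := by
    rw [hT', ← cj_eq_self.2 (inv_mem (hM hg))]
    exact cj_mono hRT
  have hT'R : (T' : Subgroup G) ≤ normalizer (R : Set G) := by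
    rw [hT']
    rintro _ ⟨s, hs, rfl⟩
    exact mul_mem (mul_mem (inv_mem (hM hg)) (hM (hTM hs))) (by simpa using hM hg)
  have hPN : P ≤ N := by
    rw [← hPE]
    exact sup_le (hRT'.trans hTY) (hEY.trans (centralizer_le_normalizer _))
  have hPN' : cj m P ≤ N := by
    rw [← hPE, cj_sup, cj_eq_self.2 (hM hm)]
    exact sup_le (hRT'.trans hTY) (hEY'.trans (centralizer_le_normalizer _))
  have hchar : centralizer (pCore 2 ↥N : Set ↥N) ≤ pCore 2 ↥N :=
    hE N ⟨Y, T.isPGroup'.to_le (hYR.trans hRT), hY0, rfl⟩ ⟨T', hTY⟩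
  have hQp : IsPGroup 2 (pCoreOf 2 N) := LocalStructure.pCore_isPGroup.map _
  have hNQ : N ≤ normalizer (pCoreOf 2 N : Set G) := le_normalizer_map_subtype (pCore_normal 2 _)
  refine false_of_two_parabolics d hgen hPE hPR (hM hm) hmO (map_subtype_le _) hQp hNQ ?_ ?_ hT'R
    hPN hPN'
  · rintro x ⟨hxN, hxc⟩
    refine ⟨⟨x, hxN⟩, hchar (mem_centralizer_iff.2 fun y hy => Subtype.ext ?_), rfl⟩
    exact mem_centralizer_iff.1 hxc _ (mem_map_of_mem _ hy)
  · exact le_sup_left.trans (T'.is_maximal' (hQp.to_sup_of_normal_left' T'.isPGroup'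
      (hTY.trans hNQ)) le_sup_right).le

end CfsgLib.PushAut85
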