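import Cfsg.Agent.LocalEven50.Blocks
import Cfsg.Agent.FFCells.Basic

/-!
# Images of subgroups of `S` under automorphisms of `S`, inside the ambient group
-/

set_option autoImplicit false

namespace CfsgLib.PushAut85

open Subgroup Cfsg

variable {G : Type*} [Group G] {S : Subgroup G}

/-- The image of `X ∩ S` under an automorphism of `S`, inside `G`. -/
def im (a : MulAut ↥S) (X : Subgroup G) : Subgroup G :=
  (X.subgroupOf S).map (S.subtype.comp a.toMonoidHom)

theorem mem_im {a : MulAut ↥S} {X : Subgroup G} {y : G} :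
    y ∈ im a X ↔ ∃ x : ↥S, (x : G) ∈ X ∧ ((a x : ↥S) : G) = y :=
  Iff.rfl

theorem im_le (a : MulAut ↥S) (X : Subgroup G) : im a X ≤ S := fun y hy => by
  obtain ⟨x, -, rfl⟩ := mem_im.1 hy
  exact (a x).2

theorem apply_mem_im {a : MulAut ↥S} {X : Subgroup G} {x : ↥S} (hx : (x : G) ∈ X) :
    ((a x : ↥S) : G) ∈ im a X := mem_im.2 ⟨x, hx, rfl⟩

theorem im_mono (a : MulAut ↥S) {X Y : Subgroup G} (h : X ≤ Y) : im a X ≤ im a Y := fun y hy => by
  obtain ⟨x, hx, rfl⟩ := mem_im.1 hy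
  exact apply_mem_im (h hx)

theorem im_mul (a b : MulAut ↥S) (X : Subgroup G) : im (a * b) X = im a (im b X) := by
  refine SetLike.ext fun y => ⟨fun hy => ?_, fun hy => ?_⟩
  · obtain ⟨x, hx, rfl⟩ := mem_im.1 hy
    exact apply_mem_im (apply_mem_im hx)
  · obtain ⟨x, hx, rfl⟩ := mem_im.1 hy
    obtain ⟨z, hz, e⟩ := mem_im.1 hx
    obtain rfl : b z = x := Subtype.ext e
    exact apply_mem_im (a := a * b) hz

theorem im_one {X : Subgroup G} (h : X ≤ S) : im (1 : MulAut ↥S) X = X := by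
  refine SetLike.ext fun y => ⟨fun hy => ?_, fun hy => mem_im.2 ⟨⟨y, h hy⟩, hy, rfl⟩⟩
  obtain ⟨x, hx, rfl⟩ := mem_im.1 hy
  exact hx

theorem im_inv_im (a : MulAut ↥S) {X : Subgroup G} (h : X ≤ S) : im a⁻¹ (im a X) = X := by
  rw [← im_mul, inv_mul_cancel, im_one h]

theorem comp_injective (a : MulAut ↥S) :
    Function.Injective (S.subtype.comp a.toMonoidHom) :=
  S.subtype_injective.comp a.injective

theorem card_im (a : MulAut ↥S) {X : Subgroup G} (h : X ≤ S) :
    Nat.card (im a X) = Nat.card X :=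
  (card_map_of_injective (comp_injective a)).trans
    (Nat.card_congr (subgroupOfEquivOfLe h).toEquiv)

theorem im_centralizer (a : MulAut ↥S) {X Y : Subgroup G} (hY : Y ≤ S) :
    im a (X ⊓ centralizer (Y : Set G)) = im a X ⊓ centralizer (im a Y : Set G) := by
  refine SetLike.ext fun z => ⟨fun hz => ?_, fun hh => ?_⟩
  · obtain ⟨x, ⟨hx, hxc⟩, rfl⟩ := mem_im.1 hz
    refine ⟨apply_mem_im hx, mem_centralizer_iff.2 fun w hw => ?_⟩
    obtain ⟨y, hy, rfl⟩ := mem_im.1 hw
    have e : y * x = x * y := Subtype.ext (mem_centralizer_iff.1 hxc (y : G) hy)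
    have e2 := congrArg (fun s : ↥S => ((a s : ↥S) : G)) e
    simpa using e2
  · obtain ⟨hz, hzc⟩ := mem_inf.1 hh
    obtain ⟨x, hx, rfl⟩ := mem_im.1 hz
    refine apply_mem_im ⟨hx, mem_centralizer_iff.2 fun y hy => ?_⟩
    have h1 := mem_centralizer_iff.1 hzc _ (apply_mem_im (a := a) (x := ⟨y, hY hy⟩) hy)
    have e : a (⟨y, hY hy⟩ * x) = a (x * ⟨y, hY hy⟩) := by
      rw [map_mul, map_mul]; exact Subtype.ext h1
    exact congrArg Subtype.val (a.injective e)

theorem isElementaryAbelian_im {p : ℕ} (a : MulAut ↥S) {X : Subgroup G}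
    (h : IsElementaryAbelian p X) : IsElementaryAbelian p (im a X) := by
  refine ⟨⟨⟨fun u v => Subtype.ext ?_⟩⟩, fun z hz => ?_⟩
  · obtain ⟨x, hx, e1⟩ := mem_im.1 u.2
    obtain ⟨y, hy, e2⟩ := mem_im.1 v.2
    have e : (x : G) * y = y * x := congrArg Subtype.val (h.1.is_comm.comm ⟨_, hx⟩ ⟨_, hy⟩)
    show (u : G) * (v : G) = v * u
    rw [← e1, ← e2, ← Subgroup.coe_mul, ← Subgroup.coe_mul, ← map_mul, ← map_mul,
      show x * y = y * x from Subtype.ext e]
  · obtain ⟨x, hx, rfl⟩ := mem_im.1 hz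
    rw [← Subgroup.coe_pow, ← map_pow, show x ^ p = 1 from Subtype.ext (by simpa using h.2 _ hx),
      map_one, Subgroup.coe_one]

theorem le_normalizer_im [Finite G] (a : MulAut ↥S) {X : Subgroup G}
    (h : S ≤ normalizer (X : Set G)) : S ≤ normalizer (im a X : Set G) := by
  intro s hs
  refine FFCells.mem_normalizer_of_cj_le ?_
  rintro _ ⟨y, hy, rfl⟩
  obtain ⟨x, hx, rfl⟩ := mem_im.1 hy
  set s' : ↥S := a⁻¹ ⟨s, hs⟩
  have hs' : a s' = ⟨s, hs⟩ := a.apply_symm_apply _
  refine mem_im.2 ⟨s' * x * s'⁻¹, ?_, ?_⟩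
  · exact (mem_normalizer_iff.1 (h s'.2) _).1 hx
  · rw [map_mul, map_mul, map_inv, hs']
    rfl

/-- The Baumann subgroup is invariant under all automorphisms. -/
theorem im_baumann {p : ℕ} (a : MulAut ↥S) :
    im a (baumannSubgroupOf p S) = baumannSubgroupOf p S := by
  have h1 := LocalEven50.map_baumannSubgroupOf (p := p) S.subtype_injective (⊤ : Subgroup ↥S)
  rw [← MonoidHom.range_eq_map, S.range_subtype] at h1
  have h2 := LocalEven50.map_baumannSubgroupOf (p := p) (f := a.toMonoidHom) a.injective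
    (⊤ : Subgroup ↥S)
  rw [map_top_of_surjective _ a.surjective] at h2
  rw [← h1, im, subgroupOf, comap_map_eq_self_of_injective S.subtype_injective, ← map_map, h2]

end CfsgLib.PushAut85
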