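import Cfsg.Agent.PushAut85.Unique

/-!
# Automorphisms of odd order of a Sylow `2`-subgroup of a minimal parabolic group

They move `V = Ω₁Z(O₂(G))` inside `O₂(G)`; hence their images of `V` generate a normal subgroup.
-/

set_option autoImplicit false
set_option linter.style.haveILetI false
set_option linter.unusedSectionVars false

namespace CfsgLib.PushAut85

open Subgroup Cfsg CfsgLib.FFCells CfsgLib.PushParabolic85 CfsgLib.SL2Recognition
open scoped commutatorElement IsMulCommutative Pointwise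

variable {G : Type*} [Group G] [Finite G] {T : Sylow 2 G} {M : Subgroup G}

local notation "𝐑" => pCore 2 G
local notation "𝐕" => omegaOneCenter 2 (pCore 2 G)
local notation "𝐁" => baumannSubgroupOf 2 (T : Subgroup G)

variable [IsMulCommutative (omegaOneCenter 2 (pCore 2 G))] (h : Ctx 2 T M)
  {𝒞 : Set (Subgroup (FFBlocks.Img h.loc) × Subgroup (FFBlocks.Img h.loc))}
  (hC : Config (FFBlocks.kRep h.loc) 2 ((T : Subgroup G).map (FFBlocks.projG h.loc)) 𝒞)
  (hJ : (thompsonSubgroup 2 G).map (FFBlocks.projG h.loc) = grpsJoin 𝒞)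
include hC hJ

/-- An automorphism of odd order of `T` maps `V` into `O₂(G)`. -/
theorem im_V_le (a : MulAut ↥(T : Subgroup G)) (ha : Odd (orderOf a)) : im a 𝐕 ≤ 𝐑 := by
  by_contra hne
  have hBT : 𝐁 ≤ (T : Subgroup G) := inf_le_left
  have hV := twin_V h hC hJ rfl
  have hVT : 𝐕 ≤ (T : Subgroup G) := hV.le.trans hBT
  have hCV := h.centralizer_V_eq hC hJ
  have hne' : ¬ im a⁻¹ 𝐕 ≤ 𝐑 := fun h2 => by
    have h3 : im a⁻¹ 𝐕 ≤ 𝐁 ⊓ centralizer (𝐕 : Set G) := le_inf (hV.map _).le (h2.trans hCV.ge)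
    have h4 := im_mono a h3
    rw [← im_mul, mul_inv_cancel, im_one hVT, im_centralizer a hVT, im_baumann] at h4
    exact hne ((le_centralizer_iff.1 (h4.trans inf_le_right)).trans hCV.le)
  set Z : Subgroup G := 𝐁 ⊓ centralizer (𝐁 : Set G) with hZ
  have hZim : ∀ b : MulAut ↥(T : Subgroup G), im b Z = Z := fun b => by
    rw [hZ, im_centralizer b hBT, im_baumann]
  set K : Subgroup G := 𝐕 ⊔ Z with hK
  have hKT : K ≤ (T : Subgroup G) := sup_le hVT (inf_le_left.trans hBT)
  have hKR : K ≤ 𝐑 := sup_le h.V_le_R (inf_le_right.trans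
    ((centralizer_le (SetLike.coe_subset_coe.2 hV.le)).trans hCV.le))
  have h1 : im a 𝐕 ≤ im a⁻¹ K :=
    (twin_le_sup h hC hJ rfl (hV.map a⁻¹) hne' (hV.map a) hne).trans
      (sup_le (im_mono _ le_sup_left) ((hZim _).ge.trans (im_mono _ le_sup_right)))
  have h2 : im (a * a) 𝐕 ≤ K := by
    have h3 := im_mono a h1
    rwa [← im_mul, ← im_mul, mul_inv_cancel, im_one hKT] at h3
  have h3 : im (a * a) K ≤ K := by
    have h4 : K ≤ im (a * a)⁻¹ K := sup_le
      (by
        have h5 := im_mono (a * a)⁻¹ h2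
        rwa [im_inv_im _ hVT] at h5)
      ((hZim _).ge.trans (im_mono _ le_sup_right))
    refine (im_mono _ h4).trans (le_of_eq ?_)
    rw [← im_mul, mul_inv_cancel, im_one hKT]
  have h6 : ∀ n : ℕ, im ((a * a) ^ n) 𝐕 ≤ K := fun n => by
    induction n with
    | zero => rw [pow_zero, im_one hVT]; exact le_sup_left
    | succ n ih => rw [pow_succ', im_mul]; exact (im_mono _ ih).trans h3
  obtain ⟨k, hk⟩ := ha
  refine hne (le_trans ?_ hKR)
  have e : (a * a) ^ (k + 1) = a := by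
    rw [← pow_two, ← pow_mul, show 2 * (k + 1) = orderOf a + 1 by rw [hk]; ring, pow_succ,
      pow_orderOf_eq_one, one_mul]
  exact e ▸ h6 (k + 1)

omit hC hJ in
/-- A subgroup of odd order of `Aut(T)` leaves a nontrivial normal subgroup inside `T` invariant. -/
theorem exists_invariant_normal (hyp : Hyp 2 T) (A : Subgroup (MulAut ↥(T : Subgroup G)))
    (hA : Odd (Nat.card A)) :
    ∃ U : Subgroup G, U ≠ ⊥ ∧ U.Normal ∧ U ≤ (T : Subgroup G) ∧
      ∀ a ∈ A, ∀ x : ↥(T : Subgroup G), (x : G) ∈ U →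
        ((a x : ↥(T : Subgroup G)) : G) ∈ U := by
  obtain ⟨M', h'⟩ := hyp.exists_ctx
  haveI := h'.loc.elem.1
  obtain ⟨𝒟, hC', hJ'⟩ := h'.loc.exists_config
  have hVT : 𝐕 ≤ (T : Subgroup G) := h'.loc.le
  set U : Subgroup G := ⨆ a : A, im (a : MulAut ↥(T : Subgroup G)) 𝐕 with hU
  have hUT : U ≤ (T : Subgroup G) := iSup_le fun a => im_le _ _
  have hUR : U ≤ 𝐑 := iSup_le fun a => im_V_le h' hC' hJ' _ (by
    refine Odd.of_dvd_nat hA ?_
    rw [Subgroup.orderOf_coe]
    exact orderOf_dvd_natCard a)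
  have hVU : 𝐕 ≤ U := by
    refine le_trans (le_of_eq ?_) (le_iSup (fun a : A => im (a : MulAut ↥(T : Subgroup G)) 𝐕) 1)
    rw [OneMemClass.coe_one, im_one hVT]
  have hTU : (T : Subgroup G) ≤ normalizer (U : Set G) :=
    PushParabolic85.le_normalizer_iSup fun a => le_normalizer_im _ (by
      rw [normalizer_eq_top_iff.2 h'.loc.normal]; exact le_top)
  refine ⟨U, fun e => ?_, ?_, hUT, fun a ha x hx => ?_⟩
  · refine hyp.hz ?_
    have e1 : omegaOneCenter 2 (T : Subgroup G) = ⊥ :=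
      le_bot_iff.1 (e ▸ (h'.omegaT_le_V.trans hVU))
    rw [e1]; infer_instance
  · refine normalizer_eq_top_iff.1 (top_le_iff.1 ?_)
    obtain ⟨c, hc⟩ := hC'.nonempty
    refine (h'.cellBlk_blkC hC' hJ' hc).sup_T.ge.trans (sup_le (fun e he => ?_) hTU)
    refine mem_normalizer_of_cj_le ?_
    rintro _ ⟨u, hu, rfl⟩
    rw [MulEquiv.coe_toMonoidHom, MulAut.conj_apply,
      show e * u * e⁻¹ = ⁅u, e⁆⁻¹ * u by simp only [commutatorElement_def]; group]
    exact mul_mem (inv_mem (hVU (commutator_R_blkC h' hC' hJ' hc rfl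
      (commutator_mem_commutator (hUR hu) he)))) hu
  · have h1 : im a U ≤ U := by
      have h2 : U ≤ im a⁻¹ U := iSup_le fun b => by
        have h3 : im (a * (b : MulAut ↥(T : Subgroup G))) 𝐕 ≤ U :=
          le_iSup (fun c : A => im (c : MulAut ↥(T : Subgroup G)) 𝐕) ⟨_, mul_mem ha b.2⟩
        have h4 := im_mono a⁻¹ h3
        rwa [← im_mul, inv_mul_cancel_left] at h4
      refine (im_mono a h2).trans (le_of_eq ?_)
      rw [← im_mul, mul_inv_cancel, im_one hUT]
    exact h1 (apply_mem_im hx)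

end CfsgLib.PushAut85
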