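import Cfsg.Agent.PushAut85.Main

/-!
# The facts about a `2`-minimal subgroup in which nothing pushes up, inside an ambient group

`P` has Sylow subgroup `R`; `O = O₂(P)`, `V = Ω₁Z(O)`.  The conjugates of `V` under `N(R)` lie in
`O` or agree modulo `Z(B(R))`.
-/

set_option autoImplicit false
set_option linter.style.haveILetI false
set_option linter.unusedSectionVars false

namespace CfsgLib.PushAut85

open Subgroup Cfsg CfsgLib.FFCells CfsgLib.PushParabolic85 CfsgLib.SL2Recognition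
open scoped commutatorElement IsMulCommutative Pointwise

variable {G : Type*} [Group G] [Finite G]

/-- The conclusions used for a `2`-minimal subgroup. -/
structure PushData (R P V O : Subgroup G) : Prop where
  O_le : O ≤ R
  R_le : R ≤ P
  O_max : ∀ X : Subgroup G, X ≤ P → P ≤ normalizer (X : Set G) → IsPGroup 2 X → X ≤ O
  O_norm : P ≤ normalizer (O : Set G)
  V_norm : P ≤ normalizer (V : Set G)
  V_le : V ≤ O
  V_le_B : V ≤ baumannSubgroupOf 2 R
  cent : ∀ x ∈ P, x ∈ centralizer (V : Set G) ↔ x ∈ O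
  comm : ⁅O, LocalStructure.pResOf 2 P⁆ ≤ V
  uniq : ∀ g ∈ normalizer (R : Set G), ∀ k ∈ normalizer (R : Set G),
    ¬ cj g V ≤ O → ¬ cj k V ≤ O →
      cj k V ≤ cj g V ⊔ (baumannSubgroupOf 2 R ⊓ centralizer (baumannSubgroupOf 2 R : Set G))
  inter : ∀ g ∈ normalizer (R : Set G), ¬ cj g V ≤ O →
    V ⊓ centralizer (cj g V : Set G) ≤ centralizer (baumannSubgroupOf 2 R : Set G)
  fixed : ∀ Λ : Subgroup G, Λ ≤ P → P ≤ normalizer (Λ : Set G) →
    baumannSubgroupOf 2 R ≤ centralizer (Λ : Set G) →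
      LocalStructure.pResOf 2 P ≤ centralizer (Λ : Set G)

variable {T : Sylow 2 G} {M : Subgroup G}

local notation "𝐑" => pCore 2 G
local notation "𝐕" => omegaOneCenter 2 (pCore 2 G)

variable [IsMulCommutative (omegaOneCenter 2 (pCore 2 G))] (h : Ctx 2 T M)
  {𝒞 : Set (Subgroup (FFBlocks.Img h.loc) × Subgroup (FFBlocks.Img h.loc))}
  (hC : Config (FFBlocks.kRep h.loc) 2 ((T : Subgroup G).map (FFBlocks.projG h.loc)) 𝒞)
  (hJ : (thompsonSubgroup 2 G).map (FFBlocks.projG h.loc) = grpsJoin 𝒞)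
include hC hJ

theorem commutator_pResidual_le : ⁅𝐑, pResidual 2 G⁆ ≤ 𝐕 := by
  haveI := pCore_normal 2 G
  haveI := h.loc.normal
  set π := QuotientGroup.mk' 𝐕
  haveI : ((𝐑).map π).Normal :=
    Subgroup.Normal.map inferInstance _ (QuotientGroup.mk'_surjective _)
  set X : Subgroup G := (centralizer ((𝐑).map π : Set (G ⧸ 𝐕))).comap π
  have hmem : ∀ x, x ∈ X → ∀ r ∈ 𝐑, ⁅r, x⁆ ∈ 𝐕 := fun x hx r hr => by
    rw [← QuotientGroup.eq_one_iff (N := 𝐕)]
    show π ⁅r, x⁆ = 1
    rw [map_commutatorElement, commutatorElement_eq_one_iff_mul_comm]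
    exact mem_centralizer_iff.1 hx _ (mem_map_of_mem _ hr)
  haveI : X.Normal := inferInstance
  obtain ⟨c, hc⟩ := hC.nonempty
  have hEX : blkC h c ≤ X := fun e he => mem_centralizer_iff.2 (by
    rintro _ ⟨r, hr, rfl⟩
    rw [← commutatorElement_eq_one_iff_mul_comm, ← map_commutatorElement]
    exact (QuotientGroup.eq_one_iff _).2
      (commutator_R_blkC h hC hJ hc rfl (commutator_mem_commutator hr he)))
  have hle : pResidual 2 G ≤ X := by
    refine LocalStructure.pResidual_le_of_sup_eq_top T.isPGroup' (top_le_iff.1 ?_)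
    rw [sup_comm]
    exact (h.cellBlk_blkC hC hJ hc).sup_T.ge.trans (sup_le_sup_right hEX _)
  exact commutator_le.2 fun r hr e he => hmem e (hle he) r hr

theorem pResidual_le_centralizer {Λ : Subgroup G} [Λ.Normal]
    (hB : baumannSubgroupOf 2 (T : Subgroup G) ≤ centralizer (Λ : Set G)) :
    pResidual 2 G ≤ centralizer (Λ : Set G) := by
  refine h.pResidual_le_K.trans ?_
  rw [show thompsonSubgroup 2 G = sSup (PLocal.maxEAIn 2 (⊤ : Subgroup G)) by
    rw [← PLocal.maxEA_eq_maxEAIn_top]; rfl]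
  refine sSup_le fun A hA => ?_
  obtain ⟨g, hg⟩ := FFBlocks.exists_cj_le_sylow (PLocal.isPGroup_of_isElementaryAbelian hA.2.1) T
  have h2 : cj g A ∈ PLocal.maxEAIn 2 (T : Subgroup G) := by
    rw [FFBlocks.maxEAIn_sylow]
    exact ⟨FFBlocks.cj_mem_maxEA hA g, hg⟩
  have h3 : cj g A ≤ centralizer (Λ : Set G) := ((thompson_le h2).trans h.J_le_B).trans hB
  have h4 := cj_mono (g := g⁻¹) h3
  rw [cj_inv_cj] at h4
  exact h4.trans (cj_eq_self.2 (by rw [normalizer_eq_top_iff.2 inferInstance]; exact mem_top _)).le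

omit hC hJ [IsMulCommutative (omegaOneCenter 2 (pCore 2 G))] in
/-- A `2`-minimal subgroup `P` of characteristic `2` in which nothing pushes up. -/
theorem exists_pushData {R P : Subgroup G} (hRP : R ≤ P)
    (hsyl : ∃ S : Sylow 2 ↥P, (S : Subgroup ↥P) = R.subgroupOf P)
    (hmin : IsPMinimal 2 ↥P) (hcharP : centralizer (pCore 2 ↥P : Set ↥P) ≤ pCore 2 ↥P)
    (hchar : ∀ C : Subgroup G, C ≤ baumannSubgroupOf 2 R → C ≠ ⊥ →
      (C.subgroupOf (baumannSubgroupOf 2 R)).Characteristic → ¬ P ≤ normalizer (C : Set G))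
    (hz : ¬ P ≤ normalizer (omegaOneCenter 2 R : Set G)) :
    ∃ V, V ≠ ⊥ ∧ PushData R P V (pCoreOf 2 P) := by
  haveI : Fact (Nat.Prime 2) := ⟨Nat.prime_two⟩
  obtain ⟨S, hS⟩ := hsyl
  have hf := P.subtype_injective
  have hSR : (S : Subgroup ↥P).map P.subtype = R := by
    rw [hS, subgroupOf_map_subtype, inf_eq_left.2 hRP]
  have hB : (baumannSubgroupOf 2 (S : Subgroup ↥P)).map P.subtype = baumannSubgroupOf 2 R := by
    rw [LocalEven50.map_baumannSubgroupOf hf, hSR]
  have hZ : (omegaOneCenter 2 (S : Subgroup ↥P)).map P.subtype = omegaOneCenter 2 R := by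
    rw [LocalEven50.map_omegaOneCenter hf, hSR]
  have hnorm : ∀ X : Subgroup ↥P, X.Normal → P ≤ normalizer (X.map P.subtype : Set G) :=
    fun X hX => le_normalizer_map_subtype hX
  have hyp : Hyp 2 S := by
    refine ⟨hcharP, hmin, fun C hCB hC0 hCc hCn => hchar (C.map P.subtype) ?_ ?_ ?_ (hnorm C hCn),
      fun e => hz (hZ ▸ hnorm _ e)⟩
    · exact hB ▸ map_mono hCB
    · exact fun e => hC0 (Subgroup.map_injective hf (e.trans (Subgroup.map_bot _).symm))
    · rw [← hB]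
      refine characteristic_iff_le_comap.2 fun e x hx => ?_
      let ι := (baumannSubgroupOf 2 (S : Subgroup ↥P)).equivMapOfInjective P.subtype hf
      obtain ⟨c, hc, ec⟩ := hx
      obtain ⟨y, rfl⟩ := ι.surjective x
      have hy : (y : ↥P) ∈ C := by
        have e1 : P.subtype c = P.subtype (y : ↥P) := ec
        exact hf e1 ▸ hc
      have h1 := (characteristic_iff_le_comap.1 hCc) ((ι.trans e).trans ι.symm)
        (mem_subgroupOf.2 hy)
      refine ⟨((ι.symm (e (ι y)) : ↥(baumannSubgroupOf 2 (S : Subgroup ↥P))) : ↥P), h1, ?_⟩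
      exact congrArg Subtype.val (ι.apply_symm_apply (e (ι y)))
  obtain ⟨M', h'⟩ := hyp.exists_ctx
  haveI := h'.loc.elem.1
  obtain ⟨𝒟, hC', hJ'⟩ := h'.loc.exists_config
  have hCV := h'.centralizer_V_eq hC' hJ'
  have hO : (pCore 2 ↥P).map P.subtype = pCoreOf 2 P := rfl
  set V₁ : Subgroup ↥P := omegaOneCenter 2 (pCore 2 ↥P) with hV₁
  set V : Subgroup G := V₁.map P.subtype with hVdef
  have hres : LocalStructure.pResOf 2 P = (pResidual 2 ↥P).map P.subtype :=
    (LocalStructure.map_pResidual P).symm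
  have hcent : ∀ x ∈ P, x ∈ centralizer (V : Set G) ↔ x ∈ pCoreOf 2 P := by
    intro x hx
    constructor
    · intro hc
      have h1 : (⟨x, hx⟩ : ↥P) ∈ centralizer (V₁ : Set ↥P) := mem_centralizer_iff.2 fun v hv =>
        Subtype.ext (mem_centralizer_iff.1 hc _ (mem_map_of_mem _ hv))
      rw [hCV] at h1
      exact ⟨⟨x, hx⟩, h1, rfl⟩
    · rintro ⟨y, hy, rfl⟩
      refine mem_centralizer_iff.2 ?_
      rintro _ ⟨v, hv, rfl⟩
      exact congrArg Subtype.val (mem_centralizer_iff.1 (h'.R_le_C hy) v hv)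
  -- automorphisms of the Sylow subgroup from elements normalising `R`
  have haut : ∀ g ∈ normalizer (R : Set G), ∃ a : MulAut ↥(S : Subgroup ↥P),
      ∀ X : Subgroup ↥P, X ≤ (S : Subgroup ↥P) →
        (im a X).map P.subtype = cj g (X.map P.subtype) := by
    intro g hg
    let ι : ↥(S : Subgroup ↥P) ≃* ↥R :=
      ((S : Subgroup ↥P).equivMapOfInjective P.subtype hf).trans (MulEquiv.subgroupCongr hSR)
    have hι : ∀ x : ↥(S : Subgroup ↥P), ((ι x : ↥R) : G) = ((x : ↥P) : G) := fun x => rfl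
    let b : MulAut ↥R := Subgroup.normalizerMonoidHom (H := R) ⟨g, hg⟩
    have hb : ∀ y : ↥R, ((b y : ↥R) : G) = g * (y : G) * g⁻¹ := fun y => rfl
    refine ⟨(ι.trans b).trans ι.symm, fun X hX => ?_⟩
    have hval : ∀ x : ↥(S : Subgroup ↥P),
        ((((ι.trans b).trans ι.symm) x : ↥(S : Subgroup ↥P)) : ↥P).1 = g * ((x : ↥P) : G) * g⁻¹ :=
      fun x => by
        have h1 := hι (ι.symm (b (ι x)))
        rw [ι.apply_symm_apply] at h1
        exact h1.symm.trans ((hb (ι x)).trans (by rw [hι]))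
    refine SetLike.ext fun z => ⟨?_, ?_⟩
    · rintro ⟨w, hw, rfl⟩
      obtain ⟨x, hx, rfl⟩ := mem_im.1 hw
      refine ⟨_, mem_map_of_mem _ hx, ?_⟩
      exact (hval x).symm
    · rintro ⟨_, ⟨x, hx, rfl⟩, rfl⟩
      exact ⟨_, apply_mem_im (x := ⟨x, hX hx⟩) hx, hval _⟩
  have hVS : V₁ ≤ (S : Subgroup ↥P) := h'.loc.le
  have htwin := twin_V h' hC' hJ' rfl
  have hle_iff : ∀ X : Subgroup ↥P, X.map P.subtype ≤ pCoreOf 2 P ↔ X ≤ pCore 2 ↥P := fun X =>
    map_le_map_iff_of_injective hf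
  refine ⟨V, fun e => ?_, ⟨?_, hRP, ?_, ?_, hnorm _ h'.loc.normal, ?_, ?_, hcent, ?_, ?_, ?_, ?_⟩⟩
  · refine hyp.hz ?_
    have e1 : omegaOneCenter 2 (S : Subgroup ↥P) = ⊥ := le_bot_iff.1
      (h'.omegaT_le_V.trans (Subgroup.map_injective hf (e.trans (Subgroup.map_bot _).symm)).le)
    rw [e1]; infer_instance
  · exact hSR ▸ map_mono h'.R_le_T
  · intro X hXP hXn hX2
    have hn : (X.subgroupOf P).Normal := (normal_subgroupOf_iff_le_normalizer hXP).2 hXn
    have hp : IsPGroup 2 (X.subgroupOf P) := hX2.comap_subtype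
    have h1 := map_mono (f := P.subtype) (LocalStructure.le_pCore hp)
    rwa [subgroupOf_map_subtype, inf_eq_left.2 hXP] at h1
  · exact hnorm _ (pCore_normal 2 _)
  · exact map_mono h'.V_le_R
  · exact hB ▸ map_mono htwin.le
  · rw [hres, ← hO, ← map_commutator]
    exact map_mono (commutator_pResidual_le h' hC' hJ')
  · intro g hg k hk hgn hkn
    obtain ⟨a, ha⟩ := haut g hg
    obtain ⟨b, hb⟩ := haut k hk
    rw [← ha _ hVS, hle_iff] at hgn
    rw [← hb _ hVS, hle_iff] at hkn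
    rw [← ha _ hVS, ← hb _ hVS, ← hB, ← PLocal.map_inf_centralizer hf, ← Subgroup.map_sup]
    exact map_mono (twin_le_sup h' hC' hJ' rfl (htwin.map a) hgn (htwin.map b) hkn)
  · intro g hg hgn
    obtain ⟨a, ha⟩ := haut g hg
    rw [← ha _ hVS, hle_iff] at hgn
    rw [← ha _ hVS, ← PLocal.map_inf_centralizer hf]
    rintro _ ⟨v, hv, rfl⟩
    have h1 := twin_inf_centralizer h' hC' hJ' rfl (htwin.map a) hgn hv
    rw [← hB]
    refine mem_centralizer_iff.2 ?_
    rintro _ ⟨x, hx, rfl⟩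
    exact congrArg Subtype.val (mem_centralizer_iff.1 h1 x hx)
  · intro Λ hΛP hΛn hBΛ
    haveI : (Λ.subgroupOf P).Normal := (normal_subgroupOf_iff_le_normalizer hΛP).2 hΛn
    have h1 : baumannSubgroupOf 2 (S : Subgroup ↥P) ≤
        centralizer (Λ.subgroupOf P : Set ↥P) := fun x hx =>
      mem_centralizer_iff.2 fun y hy => Subtype.ext
        (mem_centralizer_iff.1 (hBΛ (hB ▸ mem_map_of_mem _ hx)) _ hy)
    have h2 := pResidual_le_centralizer h' hC' hJ' h1
    rw [hres]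
    rintro _ ⟨x, hx, rfl⟩
    refine mem_centralizer_iff.2 fun y hy => ?_
    exact congrArg Subtype.val
      (mem_centralizer_iff.1 (h2 hx) ⟨y, hΛP hy⟩ (mem_subgroupOf.2 hy))

end CfsgLib.PushAut85
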