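import Cfsg.Agent.PushAut85.Common
import Cfsg.Prelude.Def_Quasithin

/-!
# A minimal overgroup of `R` outside the maximal subgroup over `T`
-/

set_option autoImplicit false
set_option linter.style.haveILetI false
set_option linter.unusedSectionVars false

namespace CfsgLib.PushAut85

open Subgroup Cfsg CfsgLib.FFCells CfsgLib.PushParabolic85
open scoped commutatorElement Pointwise

variable {G : Type*} [Group G] [Finite G]

theorem oddGenerated_eq (H : Subgroup G) :
    Cfsg.oddGenerated H = LocalStructure.pResOf 2 H := by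
  rw [Cfsg.oddGenerated, LocalStructure.pResOf]
  simp only [Nat.coprime_two_right]

/-- `Ω₁Z(S) ≠ 1` for a nontrivial `2`-group `S`. -/
theorem omegaOneCenter_ne_bot {S : Subgroup G}
    (hS : IsPGroup 2 S) (hne : S ≠ ⊥) : omegaOneCenter 2 S ≠ ⊥ := by
  haveI : Fact (Nat.Prime 2) := ⟨Nat.prime_two⟩
  haveI : Nontrivial ↥S := (nontrivial_iff_ne_bot S).2 hne
  haveI := hS.center_nontrivial
  obtain ⟨k, hk, hkc⟩ := (hS.to_subgroup (Subgroup.center ↥S)).nontrivial_iff_card.1 inferInstance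
  obtain ⟨z, hz⟩ := _root_.exists_prime_orderOf_dvd_card' (G := ↥(Subgroup.center ↥S)) 2
    (hkc ▸ dvd_pow_self 2 hk.ne')
  intro e
  have h1 : ((z : ↥S) : G) ∈ omegaOneCenter 2 S := by
    refine PLocal.mem_omegaOne (mem_inf.2 ⟨(z : ↥S).2, mem_centralizer_iff.2 fun s hs => ?_⟩) ?_
    · exact congrArg Subtype.val (Subgroup.mem_center_iff.1 z.2 ⟨s, hs⟩)
    · have h2 : z ^ 2 = 1 := hz ▸ pow_orderOf_eq_one z
      exact congrArg (fun w : ↥(Subgroup.center ↥S) => ((w : ↥S) : G)) h2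
  rw [e, mem_bot] at h1
  have h3 : z = 1 := Subtype.ext (Subtype.ext h1)
  rw [h3, orderOf_one] at hz
  omega

/-- An element normalising `B` normalises every characteristic subgroup of `B`. -/
theorem normalizer_le_of_characteristic {B C : Subgroup G} (hCB : C ≤ B)
    (hch : (C.subgroupOf B).Characteristic) :
    normalizer (B : Set G) ≤ normalizer (C : Set G) := fun g hg => by
  refine mem_normalizer_of_cj_le ?_
  rintro _ ⟨c, hc, rfl⟩
  have hfix := Characteristic.fixed hch ((Subgroup.normalizerMonoidHom (H := B)) ⟨g, hg⟩)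
  exact (SetLike.ext_iff.1 hfix ⟨c, hCB hc⟩).2 hc

/-- In a group of even characteristic a subgroup over a Sylow `2`-subgroup with `O₂ ≠ 1` has
characteristic two. -/
theorem inf_centralizer_core_le (hE : IsOfEvenCharacteristic G) (T : Sylow 2 G) {H : Subgroup G}
    (hTH : (T : Subgroup G) ≤ H) (hH : pCore 2 ↥H ≠ ⊥) :
    H ⊓ centralizer (pCoreOf 2 H : Set G) ≤ pCoreOf 2 H := by
  haveI : Fact (Nat.Prime 2) := ⟨Nat.prime_two⟩
  have hQp : IsPGroup 2 (pCoreOf 2 H) := LocalStructure.pCore_isPGroup.map _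
  have hQ0 : pCoreOf 2 H ≠ ⊥ := fun e => hH (Subgroup.map_injective H.subtype_injective
    (e.trans (Subgroup.map_bot _).symm))
  set N := normalizer (pCoreOf 2 H : Set G) with hN
  have hHN : H ≤ N := le_normalizer_map_subtype (pCore_normal 2 _)
  have hTN : (T : Subgroup G) ≤ N := hTH.trans hHN
  have hc : centralizer (pCore 2 ↥N : Set ↥N) ≤ pCore 2 ↥N := hE N ⟨_, hQp, hQ0, rfl⟩ ⟨T, hTN⟩
  set Q := pCoreOf 2 N
  have hQnp : IsPGroup 2 Q := LocalStructure.pCore_isPGroup.map _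
  have hNQ : N ≤ normalizer (Q : Set G) := le_normalizer_map_subtype (pCore_normal 2 _)
  have hQT : Q ≤ (T : Subgroup G) := le_sup_left.trans
    (T.is_maximal' (hQnp.to_sup_of_normal_left' T.isPGroup' (hTN.trans hNQ)) le_sup_right).le
  have hQH : Q ≤ pCoreOf 2 H := by
    have hn : (Q.subgroupOf H).Normal :=
      (normal_subgroupOf_iff_le_normalizer (hQT.trans hTH)).2 (hHN.trans hNQ)
    have h1 := map_mono (f := H.subtype) (LocalStructure.le_pCore
      (N := Q.subgroupOf H) hQnp.comap_subtype)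
    rwa [subgroupOf_map_subtype, inf_eq_left.2 (hQT.trans hTH)] at h1
  rintro x ⟨hxH, hxc⟩
  refine hQH ⟨⟨x, hHN hxH⟩, hc (mem_centralizer_iff.2 fun y hy => Subtype.ext ?_), rfl⟩
  exact mem_centralizer_iff.1 hxc _ (hQH (mem_map_of_mem _ hy))

/-- A subgroup with a Sylow subgroup that lies in exactly one maximal subgroup. -/
theorem isPMinimal_of_unique {P : Type*} [Group P] [Finite P] (S : Sylow 2 P)
    (hn : ¬ (S : Subgroup P).Normal) {M : Subgroup P} (hM : IsCoatom M) (hS : (S : Subgroup P) ≤ M)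
    (hu : ∀ M' : Subgroup P, IsCoatom M' → (S : Subgroup P) ≤ M' → M' = M) : IsPMinimal 2 P := by
  haveI : Fact (Nat.Prime 2) := ⟨Nat.prime_two⟩
  intro S'
  obtain ⟨g, rfl⟩ := MulAction.exists_smul_eq P S S'
  have e : ((g • S : Sylow 2 P) : Subgroup P) = (S : Subgroup P).map (MulAut.conj g).toMonoidHom := rfl
  have hco : ∀ (x : P) (X : Subgroup P), IsCoatom X →
      IsCoatom (X.map (MulAut.conj x).toMonoidHom) := fun x X hX =>
    (OrderIso.isCoatom_iff ((MulAut.conj x).mapSubgroup) X).2 hX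
  refine ⟨fun hnS => hn ?_, M.map (MulAut.conj g).toMonoidHom, ⟨hco g M hM, e ▸ map_mono hS⟩,
    fun M' hM' => ?_⟩
  · obtain ⟨hg⟩ := hnS
    refine ⟨fun s hs x => ?_⟩
    have h1 := hg _ (e.ge (conj_mem_cj hs)) (g * x * g⁻¹)
    rw [e] at h1
    have h2 := mem_cj.1 h1
    simpa [mul_assoc] using h2
  · have h1 : cj g⁻¹ M' = M := hu _ (hco g⁻¹ M' hM'.1) (by
      have h2 : cj g⁻¹ (cj g (S : Subgroup P)) ≤ cj g⁻¹ M' := cj_mono (e.ge.trans hM'.2)
      rwa [cj_inv_cj] at h2)
    rw [← cj, ← h1, cj_cj_inv]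

end CfsgLib.PushAut85
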