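import Cfsg.Agent.PushParabolic85.Main
import Cfsg.Agent.PushAut85.Cells
import Cfsg.Agent.PushAut85.Image
import Cfsg.Agent.SylowCount.Quotient

/-!
# Images of `V` outside `O₂(G)`

In the pushing up situation for `p = 2` let `P` be an elementary abelian normal subgroup of `T` in
`B = B(T)` with the same two indices `|B : C_B(P)| = |P : C_P(B)| = q` as `V`.  If `P ≰ O₂(G)`
then `B = V C_B(P)`, and all such `P` agree modulo `Z(B)`.
-/

set_option autoImplicit false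
set_option linter.style.haveILetI false
set_option linter.unusedSectionVars false

namespace CfsgLib.PushAut85

open Subgroup Cfsg CfsgLib.FFCells CfsgLib.PushParabolic85 CfsgLib.SL2Recognition
open scoped commutatorElement IsMulCommutative Pointwise

variable {G : Type*} [Group G] [Finite G]

/-- A subgroup with the indices of `V`. -/
structure Twin (T : Subgroup G) (q : ℕ) (P : Subgroup G) : Prop where
  le : P ≤ baumannSubgroupOf 2 T
  elem : IsElementaryAbelian 2 P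
  norm : T ≤ normalizer (P : Set G)
  cardC : q * Nat.card ↥(baumannSubgroupOf 2 T ⊓ centralizer (P : Set G)) =
    Nat.card (baumannSubgroupOf 2 T)
  cardZ : q * Nat.card ↥(P ⊓ centralizer (baumannSubgroupOf 2 T : Set G)) = Nat.card P

theorem Twin.map {T : Subgroup G} {q : ℕ} {P : Subgroup G} (h : Twin T q P) (a : MulAut ↥T) :
    Twin T q (im a P) := by
  have hB : baumannSubgroupOf 2 T ≤ T := inf_le_left
  have hP : P ≤ T := h.le.trans hB
  refine ⟨(im_mono a h.le).trans (im_baumann a).le, isElementaryAbelian_im a h.elem,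
    le_normalizer_im a h.norm, ?_, ?_⟩
  · conv_lhs => rw [← im_baumann (p := 2) a, ← im_centralizer a hP,
      card_im a (inf_le_left.trans hB)]
    exact h.cardC
  · conv_lhs => rw [← im_baumann (p := 2) a, ← im_centralizer a hB,
      card_im a (inf_le_left.trans hP)]
    rw [card_im a hP]
    exact h.cardZ

theorem mem_fix_sup {P V : Type*} [Group P] [AddCommGroup V] {σ : P →* AddMonoid.End V}
    {X Y : Subgroup P} {v : V} (hX : v ∈ fix σ X) (hY : v ∈ fix σ Y) : v ∈ fix σ (X ⊔ Y) := by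
  rw [sup_eq_iSup]
  exact fix_iSup _ fun b => by cases b <;> assumption

variable {p : ℕ} [hp : Fact p.Prime] {T : Sylow p G} {M : Subgroup G}

local notation "𝐑" => pCore p G
local notation "𝐕" => omegaOneCenter p (pCore p G)
local notation "𝐓" => (T : Subgroup G)
local notation "𝐁" => baumannSubgroupOf p (T : Subgroup G)
local notation "𝐑₀" => baumannCore p (T : Subgroup G)

variable [IsMulCommutative (omegaOneCenter p (pCore p G))] (h : Ctx p T M)

local notation "σV" => FFBlocks.kRep h.loc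
local notation "πV" => FFBlocks.projG h.loc

variable {𝒞 : Set (Subgroup (FFBlocks.Img h.loc) × Subgroup (FFBlocks.Img h.loc))}
  (hC : Config (FFBlocks.kRep h.loc) p ((T : Subgroup G).map (FFBlocks.projG h.loc)) 𝒞)
  (hJ : (thompsonSubgroup p G).map (FFBlocks.projG h.loc) = grpsJoin 𝒞)
include hC hJ

theorem inj_kRep : Function.Injective σV := FFBlocks.kRep_injective h.loc

theorem act_val (g : G) (w : Additive 𝐕) :
    ((Additive.toMul (σV (πV g) w) : 𝐕) : G) = g * ((Additive.toMul w : 𝐕) : G) * g⁻¹ :=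
  h.loc.act.conj ⟨g, mem_top g⟩ w

theorem act_eq_self_iff (g : G) {v : G} (hv : v ∈ 𝐕) :
    σV (πV g) (Additive.ofMul (⟨v, hv⟩ : 𝐕)) = Additive.ofMul (⟨v, hv⟩ : 𝐕) ↔ g * v = v * g := by
  constructor
  · intro e
    have e1 : g * v * g⁻¹ = v := (act_val h hC hJ g _).symm.trans
      (congrArg (fun w : Additive 𝐕 => ((Additive.toMul w : 𝐕) : G)) e)
    exact mul_inv_eq_iff_eq_mul.1 e1
  · intro e
    refine Additive.toMul.injective (Subtype.ext ?_)
    rw [act_val h hC hJ]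
    exact mul_inv_eq_iff_eq_mul.2 e

theorem fix_map_iff (X : Subgroup G) {v : G} (hv : v ∈ 𝐕) :
    Additive.ofMul (⟨v, hv⟩ : 𝐕) ∈ fix σV (X.map πV) ↔ v ∈ centralizer (X : Set G) := by
  refine ⟨fun e => mem_centralizer_iff.2 fun x hx =>
    (act_eq_self_iff h hC hJ x hv).1 (e _ (mem_map_of_mem _ hx)), ?_⟩
  rintro e _ ⟨x, hx, rfl⟩
  exact (act_eq_self_iff h hC hJ x hv).2 (mem_centralizer_iff.1 e x hx)

theorem card_inf_centralizer (X : Subgroup G) :
    Nat.card ↥(𝐕 ⊓ centralizer (X : Set G)) = Nat.card (fix σV (X.map πV)) :=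
  Nat.card_congr
    { toFun := fun v => ⟨Additive.ofMul (⟨v.1, v.2.1⟩ : 𝐕), (fix_map_iff h hC hJ X v.2.1).2 v.2.2⟩
      invFun := fun w => ⟨((Additive.toMul w.1 : 𝐕) : G), (Additive.toMul w.1 : 𝐕).2,
        (fix_map_iff h hC hJ X (Additive.toMul w.1 : 𝐕).2).1 w.2⟩
      left_inv := fun _ => rfl
      right_inv := fun _ => rfl }

theorem card_map_mul (X : Subgroup G) :
    Nat.card (X.map πV) * Nat.card ↥(X ⊓ 𝐑) = Nat.card X := by
  have hk : (MonoidHom.subgroupMap πV X).ker = (X ⊓ 𝐑).subgroupOf X := SetLike.ext fun x => by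
    rw [MonoidHom.mem_ker, mem_subgroupOf, Subtype.ext_iff]
    exact (h.map_eq_one_iff hC hJ).trans ⟨fun e => ⟨x.2, e⟩, fun e => e.2⟩
  rw [card_eq_card_quotient_mul_card_subgroup (MonoidHom.subgroupMap πV X).ker,
    Nat.card_congr (QuotientGroup.quotientKerEquivOfSurjective _
      (MonoidHom.subgroupMap_surjective _ X)).toEquiv, hk,
    Nat.card_congr (subgroupOfEquivOfLe (inf_le_left : X ⊓ 𝐑 ≤ X)).toEquiv]

theorem B_inf_centralizer_V : 𝐁 ⊓ centralizer (𝐕 : Set G) = 𝐑₀ := by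
  rw [h.centralizer_V_eq hC hJ, h.B_inf_R]

theorem card_B : Nat.card (rootsJoin 𝒞) * Nat.card 𝐑₀ = Nat.card 𝐁 := by
  have h1 := card_map_mul h hC hJ 𝐁
  rwa [h.map_B hC hJ, h.B_inf_R] at h1

theorem card_V :
    Nat.card (rootsJoin 𝒞) * Nat.card ↥(𝐕 ⊓ centralizer (𝐁 : Set G)) = Nat.card 𝐕 := by
  rw [card_inf_centralizer h hC hJ, h.map_B hC hJ]
  exact (hC.pre.fam.wt_join (inj_kRep h hC hJ)).trans (Nat.card_congr Additive.toMul)

theorem twin_V (hp2 : p = 2) : Twin 𝐓 (Nat.card (rootsJoin 𝒞)) 𝐕 := by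
  subst hp2
  refine ⟨h.V_le_R₀.trans h.R₀_le_B, h.loc.elem, ?_, ?_, card_V h hC hJ⟩
  · rw [normalizer_eq_top_iff.2 h.loc.normal]; exact le_top
  · rw [B_inf_centralizer_V h hC hJ]; exact card_B h hC hJ

/-- Commutators in `R₀` by elements of `O^p`-parts of cells lie in `V`. -/
theorem commutator_R_blkC {c : Subgroup (FFBlocks.Img h.loc) × Subgroup (FFBlocks.Img h.loc)}
    (hc : c ∈ 𝒞) (hp2 : p = 2) : ⁅𝐑, blkC h c⁆ ≤ 𝐕 := by
  rcases (h.cellBlk_blkC hC hJ hc).isBlockOf.RE_cases with h1 | ⟨h3, -⟩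
  · exact h1.trans (BlockNormal85.modU_le_V _)
  · omega

theorem mem_fix_grps_of_commute {w : G} (hw : w ∈ 𝐕)
    (hwf : Additive.ofMul (⟨w, hw⟩ : 𝐕) ∈ fix σV (rootsJoin 𝒞))
    (hE : ∀ c ∈ 𝒞, ∀ e ∈ blkC h c, e * w = w * e) :
    Additive.ofMul (⟨w, hw⟩ : 𝐕) ∈ fix σV (grpsJoin 𝒞) := by
  refine fix_iSup _ fun c => ?_
  rw [← h.root_sup_pResOf hC hJ c.2, ← (h.cellBlk_blkC hC hJ c.2).image]
  refine mem_fix_sup (fix_anti σV (hC.pre.fam.root_le_join c) hwf) ?_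
  rintro _ ⟨e, he, rfl⟩
  exact (act_eq_self_iff h hC hJ e hw).2 (hE c.1 c.2 e he)

theorem commute_commutator {c : Subgroup (FFBlocks.Img h.loc) × Subgroup (FFBlocks.Img h.loc)}
    (hc : c ∈ 𝒞) (hp2 : p = 2) {a b : G} (ha : a ∈ 𝐑) (hb : b ∈ 𝐑) {e : G} (he : e ∈ blkC h c) :
    e * ⁅a, b⁆ = ⁅a, b⁆ * e := by
  have hcen : ∀ x ∈ 𝐑, ∀ u ∈ 𝐕, x * u = u * x := fun x hx u hu =>
    (mem_centralizer_iff.1 (h.R_le_C hx) u hu).symm
  have hmov : ∀ x ∈ 𝐑, ∃ u ∈ 𝐕, e * x * e⁻¹ = x * u := fun x hx => ⟨⁅x⁻¹, e⁆,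
    commutator_R_blkC h hC hJ hc hp2 (commutator_mem_commutator (inv_mem hx) he), by
      simp only [commutatorElement_def]; group⟩
  obtain ⟨u, hu, eu⟩ := hmov a ha
  obtain ⟨w, hw', ew⟩ := hmov b hb
  refine mul_inv_eq_iff_eq_mul.1 ?_
  calc e * ⁅a, b⁆ * e⁻¹ = ⁅e * a * e⁻¹, e * b * e⁻¹⁆ := by
        simp only [commutatorElement_def]; group
    _ = ⁅a * u, b * w⁆ := by rw [eu, ew]
    _ = ⁅a, b⁆ := by
        simp only [commutatorElement_def, mul_inv_rev]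
        rw [show a * u * (b * w) * (u⁻¹ * a⁻¹) * (w⁻¹ * b⁻¹) =
            a * (u * (b * w)) * u⁻¹ * a⁻¹ * w⁻¹ * b⁻¹ by group,
          ← hcen (b * w) (mul_mem hb (h.V_le_R hw')) u hu,
          show a * (b * w * u) * u⁻¹ * a⁻¹ * w⁻¹ * b⁻¹ = a * b * (w * a⁻¹) * w⁻¹ * b⁻¹ by group,
          ← hcen a⁻¹ (inv_mem ha) w hw']
        group

section Twins

variable (hp2 : p = 2) {P : Subgroup G} (hP : Twin (T : Subgroup G) (Nat.card (rootsJoin 𝒞)) P)
  (hPR : ¬ P ≤ pCore p G)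
include hp2 hP hPR

theorem twin_map_fix : fix σV (P.map πV) = fix σV (rootsJoin 𝒞) := by
  subst hp2
  refine fix_eq_fix_rootsJoin hC (inj_kRep h hC hJ) ((map_mono hP.le).trans (h.map_B hC hJ).le) ?_
    ((map_mono hP.norm).trans (le_normalizer_map _))
  intro e
  refine hPR fun x hx => (h.map_eq_one_iff hC hJ).1 ?_
  exact mem_bot.1 (e.le (mem_map_of_mem _ hx))

theorem twin_inf_centralizer : 𝐕 ⊓ centralizer (P : Set G) ≤ centralizer (𝐁 : Set G) := by
  rintro v ⟨hv, hvc⟩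
  have h1 := (fix_map_iff h hC hJ P hv).2 hvc
  rw [twin_map_fix h hC hJ hp2 hP hPR, ← h.map_B hC hJ] at h1
  exact (fix_map_iff h hC hJ 𝐁 hv).1 h1

/-- `B = V C_B(P)`. -/
theorem twin_cover {b : G} (hb : b ∈ 𝐁) :
    ∃ v ∈ 𝐕, ∃ c ∈ 𝐁 ⊓ centralizer (P : Set G), v * c = b := by
  have h2 := twin_inf_centralizer h hC hJ hp2 hP hPR
  subst hp2
  haveI := h.loc.normal
  set C := baumannSubgroupOf 2 (T : Subgroup G) ⊓ centralizer (P : Set G)
  have hVB : omegaOneCenter 2 (pCore 2 G) ≤ baumannSubgroupOf 2 (T : Subgroup G) :=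
    h.V_le_R₀.trans h.R₀_le_B
  have hinf : C ⊓ omegaOneCenter 2 (pCore 2 G) =
      omegaOneCenter 2 (pCore 2 G) ⊓ centralizer (baumannSubgroupOf 2 (T : Subgroup G) : Set G) :=
    le_antisymm (fun v hv => ⟨hv.2, h2 ⟨hv.2, hv.1.2⟩⟩)
      fun v hv => ⟨⟨hVB hv.1, centralizer_le hP.le hv.2⟩, hv.1⟩
  have h3 := SylowCount.card_sup_mul_card_inf C (omegaOneCenter 2 (pCore 2 G))
  rw [hinf, ← card_V h hC hJ] at h3
  have htop : C ⊔ omegaOneCenter 2 (pCore 2 G) = baumannSubgroupOf 2 (T : Subgroup G) := by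
    refine eq_of_le_of_card_ge (sup_le inf_le_left hVB) (le_of_eq ?_)
    refine Nat.eq_of_mul_eq_mul_right (Nat.card_pos (α := ↥(omegaOneCenter 2 (pCore 2 G) ⊓
      centralizer (baumannSubgroupOf 2 (T : Subgroup G) : Set G)))) ?_
    rw [h3, ← hP.cardC]
    ring
  rw [← htop, sup_comm, mem_sup_of_normal_left] at hb
  exact hb

theorem twin_inf_R : P ⊓ 𝐑 ≤ centralizer (𝐁 : Set G) := by
  rintro y ⟨hy, hyR⟩
  refine mem_centralizer_iff.2 fun b hb => ?_
  obtain ⟨v, hv, c, hc, rfl⟩ := twin_cover h hC hJ hp2 hP hPR hb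
  have h1 : v * y = y * v := mem_centralizer_iff.1 (h.R_le_C hyR) v hv
  have h2 : y * c = c * y := mem_centralizer_iff.1 hc.2 y hy
  rw [mul_assoc, ← h2, ← mul_assoc, h1, mul_assoc]

theorem twin_map : P.map πV = rootsJoin 𝒞 := by
  have h1 := card_map_mul h hC hJ P
  have h2 := twin_inf_R h hC hJ hp2 hP hPR
  subst hp2
  have e : P ⊓ pCore 2 G = P ⊓ centralizer (baumannSubgroupOf 2 (T : Subgroup G) : Set G) :=
    le_antisymm (le_inf inf_le_left h2) (le_inf inf_le_left (inf_le_right.trans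
      ((centralizer_le (SetLike.coe_subset_coe.2 (h.V_le_R₀.trans h.R₀_le_B))).trans
        (h.centralizer_V_eq hC hJ).le)))
  rw [e] at h1
  refine eq_of_le_of_card_ge ((map_mono hP.le).trans (h.map_B hC hJ).le) (le_of_eq ?_)
  exact (Nat.eq_of_mul_eq_mul_right Nat.card_pos (h1.trans hP.cardZ.symm)).symm

theorem twin_factor {b : G} (hb : b ∈ 𝐁) : ∃ x ∈ P, x⁻¹ * b ∈ 𝐑₀ := by
  obtain ⟨x, hx, e⟩ := (twin_map h hC hJ hp2 hP hPR).ge
    ((h.map_B hC hJ).le (mem_map_of_mem _ hb))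
  refine ⟨x, hx, ?_⟩
  subst hp2
  rw [← h.B_inf_R]
  refine mem_inf.2 ⟨mul_mem (inv_mem (hP.le hx)) hb, (h.map_eq_one_iff hC hJ).1 ?_⟩
  rw [map_mul, map_inv, e, inv_mul_cancel]

end Twins

end CfsgLib.PushAut85
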