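import Cfsg.Agent.PushAut85.Twin

/-!
# Two images of `V` outside `O₂(G)` agree modulo `Z(B)`
-/

set_option autoImplicit false
set_option linter.style.haveILetI false
set_option linter.unusedSectionVars false

namespace CfsgLib.PushAut85

open Subgroup Cfsg CfsgLib.FFCells CfsgLib.PushParabolic85 CfsgLib.SL2Recognition
open scoped commutatorElement IsMulCommutative Pointwise

variable {G : Type*} [Group G] [Finite G] {p : ℕ} [hp : Fact p.Prime]
  {T : Sylow p G} {M : Subgroup G}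

local notation "𝐑" => pCore p G
local notation "𝐕" => omegaOneCenter p (pCore p G)
local notation "𝐁" => baumannSubgroupOf p (T : Subgroup G)
local notation "𝐑₀" => baumannCore p (T : Subgroup G)

variable [IsMulCommutative (omegaOneCenter p (pCore p G))] (h : Ctx p T M)

local notation "σV" => FFBlocks.kRep h.loc
local notation "πV" => FFBlocks.projG h.loc

variable {𝒞 : Set (Subgroup (FFBlocks.Img h.loc) × Subgroup (FFBlocks.Img h.loc))}
  (hC : Config (FFBlocks.kRep h.loc) p ((T : Subgroup G).map (FFBlocks.projG h.loc)) 𝒞)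
  (hJ : (thompsonSubgroup p G).map (FFBlocks.projG h.loc) = grpsJoin 𝒞)

variable (hp2 : p = 2) {P : Subgroup G} (hP : Twin (T : Subgroup G) (Nat.card (rootsJoin 𝒞)) P)
  (hPR : ¬ P ≤ pCore p G) {P' : Subgroup G}
  (hP' : Twin (T : Subgroup G) (Nat.card (rootsJoin 𝒞)) P') (hP'R : ¬ P' ≤ pCore p G)
include hC hJ hp2 hP hPR hP' hP'R

/-- Lifts of the same root in the two subgroups differ by `v z`. -/
theorem exists_shape {x x' : G} (hx : x ∈ P) (hx' : x' ∈ P') (hd : x⁻¹ * x' ∈ 𝐑₀) :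
    ∃ v ∈ 𝐕, ∃ z ∈ centralizer (𝐁 : Set G), x * v * z = x' ∧ x * v = v * x := by
  have hcov := fun b => twin_cover h hC hJ hp2 hP hPR (b := b)
  have hcov' := fun b => twin_cover h hC hJ hp2 hP' hP'R (b := b)
  have hfac := fun b => twin_factor h hC hJ hp2 hP hPR (b := b)
  have hcg := fun w => mem_fix_grps_of_commute h hC hJ (w := w)
  have hcc : ∀ c ∈ 𝒞, ∀ {a b : G}, a ∈ 𝐑 → b ∈ 𝐑 → ∀ {e : G}, e ∈ blkC h c →
      e * ⁅a, b⁆ = ⁅a, b⁆ * e := fun c hc => commute_commutator h hC hJ hc hp2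
  have hRE := fun c (hc : c ∈ 𝒞) => commutator_R_blkC h hC hJ hc hp2
  have hF := hC.pre.fam
  have hR0R : 𝐑₀ ≤ 𝐑 := h.R₀_le_R
  have hR0B : 𝐑₀ ≤ 𝐁 := h.R₀_le_B
  have hVR : 𝐕 ≤ 𝐑 := h.V_le_R
  have hcen : ∀ r ∈ 𝐑, ∀ u ∈ 𝐕, r * u = u * r := fun r hr u hu =>
    (mem_centralizer_iff.1 (h.R_le_C hr) u hu).symm
  have hPB : P ≤ 𝐁 := by subst hp2; exact hP.le
  have hP'B : P' ≤ 𝐁 := by subst hp2; exact hP'.le
  have hroot : ∀ b ∈ 𝐁, πV b ∈ rootsJoin 𝒞 := fun b hb =>
    (h.map_B hC hJ).le (mem_map_of_mem _ hb)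
  -- a commutator of `B` and `V` centralised by the cells is trivial
  have key : ∀ b ∈ 𝐁, ∀ u : G, u ∈ 𝐕 → (∀ c ∈ 𝒞, ∀ e ∈ blkC h c, e * ⁅b, u⁆ = ⁅b, u⁆ * e) →
      b * u = u * b := by
    intro b hb u hu hE
    have hw : ⁅b, u⁆ ∈ 𝐕 := by
      rw [commutatorElement_def]
      exact mul_mem ((mem_normalizer_iff.1
        (BlockNormal85.le_normalizer_V' ⊤ (mem_top b)) u).1 hu) (inv_mem hu)
    have e : Additive.ofMul (⟨_, hw⟩ : 𝐕) =
        σV (πV b) (Additive.ofMul (⟨u, hu⟩ : 𝐕)) - Additive.ofMul (⟨u, hu⟩ : 𝐕) := by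
      refine Additive.toMul.injective (Subtype.ext ?_)
      rw [toMul_sub]
      show ⁅b, u⁆ = _
      rw [div_eq_mul_inv, Subgroup.coe_mul, act_val h hC hJ]
      rfl
    have h1 := hcg _ hw (by rw [e]; exact sub_mem_fix_rootsJoin hF (hroot b hb) _) hE
    rw [e] at h1
    exact (act_eq_self_iff h hC hJ b hu).1 (apply_eq_of_sub_mem_fix hF (hroot b hb) h1)
  set d := x⁻¹ * x' with hddef
  have hdR : d ∈ 𝐑 := hR0R hd
  -- `d` centralises `R₀`
  have hdR₀ : ∀ r ∈ 𝐑₀, d * r = r * d := by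
    intro r hr
    obtain ⟨u, hu, c, hc, rfl⟩ := hcov r (hR0B hr)
    have hcR : c ∈ 𝐑 := by
      have := mul_mem (inv_mem (hVR hu)) (hR0R hr)
      rwa [inv_mul_cancel_left] at this
    obtain ⟨u', hu', c', hc', e'⟩ := hcov' c hc.1
    have hxc : x * c = c * x := mem_centralizer_iff.1 hc.2 x hx
    have hxc' : x' * c' = c' * x' := mem_centralizer_iff.1 hc'.2 x' hx'
    -- `x [d, c] x⁻¹ = [x', u']`
    have h1 : x * ⁅d, c⁆ * x⁻¹ = ⁅x', u'⁆ := by
      calc x * ⁅d, c⁆ * x⁻¹ = x * d * c * d⁻¹ * (c⁻¹ * x⁻¹) := by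
            simp only [commutatorElement_def]; group
        _ = x' * c * x'⁻¹ * x * (c⁻¹ * x⁻¹) := by rw [hddef]; group
        _ = x' * c * x'⁻¹ * c⁻¹ := by
            rw [← mul_inv_rev, hxc]; group
        _ = x' * u' * (c' * x'⁻¹) * c'⁻¹ * u'⁻¹ := by rw [← e']; group
        _ = ⁅x', u'⁆ := by
            rw [show c' * x'⁻¹ = x'⁻¹ * c' from (Commute.inv_right hxc'.symm).eq]
            simp only [commutatorElement_def]; group
    have h2 : x * ⁅x', u'⁆ = ⁅x', u'⁆ * x := by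
      have hw : ⁅x', u'⁆ ∈ 𝐕 := by
        rw [commutatorElement_def]
        exact mul_mem ((mem_normalizer_iff.1
          (BlockNormal85.le_normalizer_V' ⊤ (mem_top x')) u').1 hu') (inv_mem hu')
      refine (act_eq_self_iff h hC hJ x hw).1 ?_
      have e : Additive.ofMul (⟨_, hw⟩ : 𝐕) =
          σV (πV x') (Additive.ofMul (⟨u', hu'⟩ : 𝐕)) - Additive.ofMul (⟨u', hu'⟩ : 𝐕) := by
        refine Additive.toMul.injective (Subtype.ext ?_)
        rw [toMul_sub]
        show ⁅x', u'⁆ = _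
        rw [div_eq_mul_inv, Subgroup.coe_mul, act_val h hC hJ]
        rfl
      rw [e]
      exact sub_mem_fix_rootsJoin hF (hroot x' (hP'B hx')) _ _ (hroot x (hPB hx))
    have h3 : ⁅d, c⁆ = ⁅x', u'⁆ := by
      calc ⁅d, c⁆ = x⁻¹ * (x * ⁅d, c⁆ * x⁻¹) * x := by group
        _ = x⁻¹ * (⁅x', u'⁆ * x) := by rw [h1, mul_assoc]
        _ = ⁅x', u'⁆ := by rw [← h2, inv_mul_cancel_left]
    have h4 : x' * u' = u' * x' := key x' (hP'B hx') u' hu' fun e he e' he' => by
      rw [← h3]; exact hcc e he hdR hcR he'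
    have h5 : d * c = c * d := by
      refine commutatorElement_eq_one_iff_mul_comm.1 ?_
      rw [h3]
      exact commutatorElement_eq_one_iff_mul_comm.2 h4
    rw [← mul_assoc, hcen d hdR u hu, mul_assoc, h5, mul_assoc]
  obtain ⟨v, hv, z, hz, hvz⟩ := hcov d (hR0B hd)
  have hzR : z ∈ 𝐑 := by
    have := mul_mem (inv_mem (hVR hv)) (hdR)
    rwa [← hvz, inv_mul_cancel_left] at this
  have hzB : z ∈ centralizer (𝐁 : Set G) := by
    refine mem_centralizer_iff.2 fun b hb => ?_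
    obtain ⟨y, hy, hr⟩ := hfac b hb
    have hzr : z * (y⁻¹ * b) = y⁻¹ * b * z := by
      have e : z = v⁻¹ * d := by rw [← hvz, inv_mul_cancel_left]
      have h1 : Commute (y⁻¹ * b) v := hcen _ (hR0R hr) v hv
      have h2 : Commute (y⁻¹ * b) d := (hdR₀ _ hr).symm
      rw [e]
      exact ((h1.inv_right).mul_right h2).eq.symm
    have hzy : y * z = z * y := mem_centralizer_iff.1 hz.2 y hy
    calc b * z = y * (y⁻¹ * b * z) := by group
      _ = y * z * (y⁻¹ * b) := by rw [← hzr, mul_assoc]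
      _ = z * b := by rw [hzy]; group
  have hxe : x * v * z = x' := by rw [mul_assoc, hvz, hddef, mul_inv_cancel_left]
  refine ⟨v, hv, z, hzB, hxe, ?_⟩
  -- the square of `x v z`
  refine key x (hPB hx) v hv fun c hc e he => ?_
  have hsq : ∀ (Q : Subgroup G), Twin (T : Subgroup G) (Nat.card (rootsJoin 𝒞)) Q →
      ∀ y ∈ Q, y * y = 1 := fun Q hQ y hy => by
    have := hQ.elem.2 y hy
    rwa [pow_two] at this
  have hv2 : v * v = 1 := by
    have := h.loc.elem.2 v hv
    rwa [hp2, pow_two] at this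
  have hxinv : x⁻¹ = x := inv_eq_of_mul_eq_one_left (hsq P hP x hx)
  have hvinv : v⁻¹ = v := inv_eq_of_mul_eq_one_left hv2
  have hzc : ∀ b ∈ 𝐁, b * z = z * b := mem_centralizer_iff.1 hzB
  have hVB : 𝐕 ≤ 𝐁 := h.V_le_R₀.trans hR0B
  have hxv : ⁅x, v⁆ = z⁻¹ * z⁻¹ := by
    have h1 : (x * v * z) * (x * v * z) = 1 := by rw [hxe]; exact hsq P' hP' x' hx'
    rw [mul_assoc (x * v), show z * (x * v * z) = x * v * z * z by
      rw [← mul_assoc z, hzc _ (mul_mem (hPB hx) (hVB hv))]] at h1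
    have h2 : x * v * x * v = z⁻¹ * z⁻¹ := by
      rw [eq_inv_mul_iff_mul_eq, eq_inv_iff_mul_eq_one]
      have h3 := congrArg (fun g => z * g * z⁻¹) h1
      simp only [mul_one, mul_inv_cancel] at h3
      rw [← h3]; group
    rw [commutatorElement_def, hxinv, hvinv]
    exact h2
  rw [hxv]
  have hmov : e * z * e⁻¹ = z * ⁅z⁻¹, e⁆ := by simp only [commutatorElement_def]; group
  have hu : ⁅z⁻¹, e⁆ ∈ 𝐕 := hRE c hc (commutator_mem_commutator (inv_mem hzR) he)
  have hu2 : ⁅z⁻¹, e⁆ * ⁅z⁻¹, e⁆ = 1 := by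
    have := h.loc.elem.2 _ hu
    rwa [hp2, pow_two] at this
  have hzz : e * (z * z) * e⁻¹ = z * z := by
    calc e * (z * z) * e⁻¹ = (e * z * e⁻¹) * (e * z * e⁻¹) := by group
      _ = z * (⁅z⁻¹, e⁆ * z) * ⁅z⁻¹, e⁆ := by rw [hmov]; simp only [mul_assoc]
      _ = z * z * (⁅z⁻¹, e⁆ * ⁅z⁻¹, e⁆) := by
          rw [← hcen z hzR _ hu]; simp only [mul_assoc]
      _ = z * z := by rw [hu2, mul_one]
  have hcom : Commute e (z * z) := mul_inv_eq_iff_eq_mul.1 hzz
  rw [← mul_inv_rev]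
  exact hcom.inv_right.eq

/-- **Two such subgroups agree modulo `Z(B)`.** -/
theorem twin_le_sup : P' ≤ P ⊔ (𝐁 ⊓ centralizer (𝐁 : Set G)) := by
  have hshape := fun {x x' : G} => exists_shape h hC hJ hp2 hP hPR hP' hP'R (x := x) (x' := x')
  have hmap := twin_map h hC hJ hp2 hP hPR
  have hmap' := twin_map h hC hJ hp2 hP' hP'R
  have hker := fun g => h.map_eq_one_iff hC hJ (x := g)
  have hinfR := twin_inf_R h hC hJ hp2 hP' hP'R
  subst hp2
  have hF := hC.pre.fam
  have hPB := hP.le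
  have hP'B := hP'.le
  have hex : ∀ j : FFBlocks.Img h.loc, ∃ x x' v z : G, ∃ hv : v ∈ omegaOneCenter 2 (pCore 2 G),
      j ∈ rootsJoin 𝒞 → x ∈ P ∧ x' ∈ P' ∧ (FFBlocks.projG h.loc) x = j ∧ (FFBlocks.projG h.loc) x' = j ∧
        z ∈ centralizer (baumannSubgroupOf 2 (T : Subgroup G) : Set G) ∧
        x * v * z = x' ∧ x * v = v * x := by
    intro j
    by_cases hj : j ∈ rootsJoin 𝒞
    · obtain ⟨x, hx, ex⟩ := hmap.ge hj
      obtain ⟨x', hx', ex'⟩ := hmap'.ge hj
      obtain ⟨v, hv, z, hz, e1, e2⟩ := hshape hx hx' (by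
        rw [← h.B_inf_R]
        exact mem_inf.2 ⟨mul_mem (inv_mem (hPB hx)) (hP'B hx'), (hker _).1 (by
          rw [map_mul, map_inv, ex, ex', inv_mul_cancel])⟩)
      exact ⟨x, x', v, z, hv, fun _ => ⟨hx, hx', ex, ex', hz, e1, e2⟩⟩
    · exact ⟨1, 1, 1, 1, one_mem _, fun e => absurd e hj⟩
  choose x x' v z hv hspec using hex
  intro y hy
  have hj : (FFBlocks.projG h.loc) y ∈ rootsJoin 𝒞 := hmap'.le (mem_map_of_mem _ hy)
  obtain ⟨hx, hx', ex, ex', hz, e1, e2⟩ := hspec _ hj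
  have hvB : v ((FFBlocks.projG h.loc) y) ∈ centralizer (baumannSubgroupOf 2 (T : Subgroup G) : Set G) := by
    refine (fix_map_iff h hC hJ _ (hv _)).1 ?_
    rw [h.map_B hC hJ]
    refine mem_fix_of_graph hF (fun j => Additive.ofMul (⟨v j, hv j⟩ :
      omegaOneCenter 2 (pCore 2 G))) ?_ ?_ hj
    · intro i hi
      obtain ⟨hxi, -, exi, -, -, -, e2i⟩ := hspec i hi
      show FFBlocks.kRep h.loc i (Additive.ofMul (⟨v i, hv i⟩ : omegaOneCenter 2 (pCore 2 G))) = _
      have e := (act_eq_self_iff h hC hJ (x i) (hv i)).2 e2i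
      rwa [exi] at e
    · intro i hi k hk
      obtain ⟨hxi, hxi', exi, -, hzi, e1i, -⟩ := hspec i hi
      obtain ⟨hxk, hxk', exk, -, hzk, e1k, -⟩ := hspec k hk
      have hci : ∀ b ∈ baumannSubgroupOf 2 (T : Subgroup G), Commute b (z i) :=
        mem_centralizer_iff.1 hzi
      have hck : ∀ b ∈ baumannSubgroupOf 2 (T : Subgroup G), Commute b (z k) :=
        mem_centralizer_iff.1 hzk
      have hVB : ∀ u ∈ omegaOneCenter 2 (pCore 2 G), u ∈ baumannSubgroupOf 2 (T : Subgroup G) :=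
        fun u hu => h.R₀_le_B (h.V_le_R₀ hu)
      have hai := mul_mem (hPB hxi) (hVB _ (hv i))
      have hak := mul_mem (hPB hxk) (hVB _ (hv k))
      have hzkB : z k ∈ baumannSubgroupOf 2 (T : Subgroup G) := by
        have := mul_mem (inv_mem hak) (hP'B hxk')
        rwa [← e1k, inv_mul_cancel_left] at this
      have h1 : (x i * v i) * z i * ((x k * v k) * z k) =
          (x k * v k) * z k * ((x i * v i) * z i) := by
        rw [e1i, e1k]
        exact congrArg Subtype.val (hP'.elem.1.is_comm.comm ⟨_, hxi'⟩ ⟨_, hxk'⟩)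
      have h2 : Commute (x i * v i) (x k * v k) := by
        have e : (x i * v i) * (x k * v k) * (z i * z k) =
            (x k * v k) * (x i * v i) * (z i * z k) := by
          calc (x i * v i) * (x k * v k) * (z i * z k)
              = (x i * v i) * ((x k * v k) * z i) * z k := by simp only [mul_assoc]
            _ = (x i * v i) * z i * ((x k * v k) * z k) := by
                rw [(hci _ hak).eq]; simp only [mul_assoc]
            _ = (x k * v k) * z k * ((x i * v i) * z i) := h1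
            _ = (x k * v k) * ((x i * v i) * (z k * z i)) := by
                rw [show (x k * v k) * z k * ((x i * v i) * z i) =
                  (x k * v k) * ((z k * (x i * v i)) * z i) by simp only [mul_assoc],
                  ← (hck _ hai).eq]
                simp only [mul_assoc]
            _ = (x k * v k) * (x i * v i) * (z i * z k) := by
                rw [(hci _ hzkB).eq]; simp only [mul_assoc]
        exact mul_right_cancel e
      have hinv : ∀ a ∈ P, a⁻¹ = a := fun a ha => inv_eq_of_mul_eq_one_left (by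
        have := hP.elem.2 a ha
        rwa [pow_two] at this)
      have hPc : x i * x k = x k * x i :=
        congrArg Subtype.val (hP.elem.1.is_comm.comm ⟨_, hxi⟩ ⟨_, hxk⟩)
      have h3 : x k * v i * (x k)⁻¹ * v k = x i * v k * (x i)⁻¹ * v i := by
        refine mul_left_cancel (a := x i * x k) ?_
        calc x i * x k * (x k * v i * (x k)⁻¹ * v k)
            = x i * (x k * x k) * v i * ((x k)⁻¹ * v k) := by simp only [mul_assoc]
          _ = x i * v i * (x k * v k) := by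
              rw [show x k * x k = 1 by
                conv_lhs => arg 1; rw [← hinv _ hxk]
                exact inv_mul_cancel _, mul_one, hinv _ hxk]
          _ = x k * v k * (x i * v i) := h2.eq
          _ = x k * x i * ((x i)⁻¹ * v k * x i * v i) := by group
          _ = x i * x k * (x i * v k * (x i)⁻¹ * v i) := by rw [hinv _ hxi, ← hPc]
      have h4 : ∀ (g : G) (u w : omegaOneCenter 2 (pCore 2 G)),
          ((Additive.toMul (FFBlocks.kRep h.loc (FFBlocks.projG h.loc g) (Additive.ofMul u) + Additive.ofMul w) :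
            omegaOneCenter 2 (pCore 2 G)) : G) = g * u * g⁻¹ * w := fun g u w => by
        rw [toMul_add, Subgroup.coe_mul, act_val h hC hJ]
        rfl
      show FFBlocks.kRep h.loc k _ - _ = FFBlocks.kRep h.loc i _ - _
      rw [sub_eq_sub_iff_add_eq_add]
      have e : FFBlocks.kRep h.loc (FFBlocks.projG h.loc (x k))
            (Additive.ofMul (⟨v i, hv i⟩ : omegaOneCenter 2 (pCore 2 G))) +
          Additive.ofMul (⟨v k, hv k⟩ : omegaOneCenter 2 (pCore 2 G)) =
          FFBlocks.kRep h.loc (FFBlocks.projG h.loc (x i))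
            (Additive.ofMul (⟨v k, hv k⟩ : omegaOneCenter 2 (pCore 2 G))) +
          Additive.ofMul (⟨v i, hv i⟩ : omegaOneCenter 2 (pCore 2 G)) := by
        refine Additive.toMul.injective (Subtype.ext ?_)
        rw [h4, h4]
        exact h3
      rwa [exk, exi] at e
  have hrest : (x' ((FFBlocks.projG h.loc) y))⁻¹ * y ∈ centralizer (baumannSubgroupOf 2 (T : Subgroup G) : Set G) :=
    hinfR (mem_inf.2 ⟨mul_mem (inv_mem hx') hy, (hker _).1 (by rw [map_mul, map_inv, ex', inv_mul_cancel])⟩)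
  have hyB : y ∈ baumannSubgroupOf 2 (T : Subgroup G) := hP'B hy
  have hxB := hPB hx
  rw [show y = x ((FFBlocks.projG h.loc) y) * ((x ((FFBlocks.projG h.loc) y))⁻¹ * y) by group]
  refine mul_mem (mem_sup_left hx) (mem_sup_right (mem_inf.2 ⟨mul_mem (inv_mem hxB) hyB, ?_⟩))
  rw [show (x ((FFBlocks.projG h.loc) y))⁻¹ * y = v ((FFBlocks.projG h.loc) y) * z ((FFBlocks.projG h.loc) y) * ((x' ((FFBlocks.projG h.loc) y))⁻¹ * y) by
    conv_rhs => rw [← e1]
    group]
  exact mul_mem (mul_mem hvB hz) hrest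

end CfsgLib.PushAut85
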